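import Mathlib
import Cfsg.Prelude.Def_Classical

/-!
The standard alternating form in characteristic two, matrices as linear automorphisms, and the
comparison with Mathlib's symplectic group (helper63).
-/

set_option autoImplicit false

namespace Cfsg.Agent.SpTrans63

open Matrix

variable {F : Type*} [Field F] {n : ℕ}

/-- The standard form `Σ uᵢ v_{n+i} + u_{n+i} vᵢ`. -/
def sform : LinearMap.BilinForm F (Fin n ⊕ Fin n → F) :=
  LinearMap.mk₂ F
    (fun u v => ∑ i : Fin n, (u (Sum.inl i) * v (Sum.inr i) + u (Sum.inr i) * v (Sum.inl i)))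
    (fun a b c => by
      simp only [Pi.add_apply, add_mul, ← Finset.sum_add_distrib]
      exact Finset.sum_congr rfl fun i _ => by ring)
    (fun r a c => by
      simp only [Pi.smul_apply, smul_eq_mul, Finset.mul_sum]
      exact Finset.sum_congr rfl fun i _ => by ring)
    (fun a b c => by
      simp only [Pi.add_apply, mul_add, ← Finset.sum_add_distrib]
      exact Finset.sum_congr rfl fun i _ => by ring)
    (fun r a c => by
      simp only [Pi.smul_apply, smul_eq_mul, Finset.mul_sum]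
      exact Finset.sum_congr rfl fun i _ => by ring)

theorem sform_apply (u v : Fin n ⊕ Fin n → F) :
    sform u v = ∑ i : Fin n, (u (Sum.inl i) * v (Sum.inr i) + u (Sum.inr i) * v (Sum.inl i)) := rfl

/-- Invertible matrices as linear automorphisms. -/
def glEquiv : GL (Fin n ⊕ Fin n) F ≃* ((Fin n ⊕ Fin n → F) ≃ₗ[F] (Fin n ⊕ Fin n → F)) :=
  Matrix.GeneralLinearGroup.toLin.trans (LinearMap.GeneralLinearGroup.generalLinearEquiv F _)

theorem glEquiv_apply (g : GL (Fin n ⊕ Fin n) F) (v : Fin n ⊕ Fin n → F) :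
    glEquiv g v = (g : Matrix (Fin n ⊕ Fin n) (Fin n ⊕ Fin n) F) *ᵥ v := rfl

theorem rank_sub_one (g : GL (Fin n ⊕ Fin n) F) :
    ((g : Matrix (Fin n ⊕ Fin n) (Fin n ⊕ Fin n) F) - 1).rank =
      Module.finrank F (LinearMap.range ((glEquiv g).toLinearMap - LinearMap.id)) := by
  have h : ((g : Matrix (Fin n ⊕ Fin n) (Fin n ⊕ Fin n) F) - 1).mulVecLin =
      (glEquiv g).toLinearMap - LinearMap.id := by
    refine LinearMap.ext fun v => ?_
    rw [Matrix.mulVecLin_apply, Matrix.sub_mulVec, Matrix.one_mulVec]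
    rfl
  rw [Matrix.rank, h]

theorem sform_dot [CharP F 2] (u v : Fin n ⊕ Fin n → F) :
    sform u v = u ⬝ᵥ (J (Fin n) F *ᵥ v) := by
  simp only [sform_apply, dotProduct, Fintype.sum_sum_type, J, Matrix.mulVec,
    Matrix.fromBlocks_apply₁₁, Matrix.fromBlocks_apply₁₂, Matrix.fromBlocks_apply₂₁,
    Matrix.fromBlocks_apply₂₂, Matrix.neg_apply, CharTwo.neg_eq, Matrix.zero_apply, zero_mul, Finset.sum_const_zero,
    zero_add, add_zero, Matrix.one_apply, ite_mul, one_mul, Finset.sum_ite_eq, Finset.mem_univ,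
    if_true, Finset.sum_add_distrib]

theorem mem_symplectic_iff [CharP F 2] (A : Matrix (Fin n ⊕ Fin n) (Fin n ⊕ Fin n) F) :
    A ∈ Matrix.symplecticGroup (Fin n) F ↔ ∀ u v, sform (A *ᵥ u) (A *ᵥ v) = sform u v := by
  have e : ∀ u v, sform (A *ᵥ u) (A *ᵥ v) = u ⬝ᵥ ((Aᵀ * J (Fin n) F * A) *ᵥ v) := fun u v => by
    rw [sform_dot, ← Matrix.mulVec_mulVec, ← Matrix.mulVec_mulVec, Matrix.dotProduct_mulVec u Aᵀ,
      Matrix.vecMul_transpose]
  rw [SymplecticGroup.mem_iff']
  refine ⟨fun h u v => by rw [e, h, ← sform_dot], fun h => Matrix.ext fun i j => ?_⟩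
  have h' := h (Pi.single i 1) (Pi.single j 1)
  rw [e, sform_dot] at h'
  simpa using h'

/-- The preserving group is Mathlib's symplectic group. -/
theorem exists_equiv_symplectic [CharP F 2] :
    Nonempty (↥(Cfsg.preserving (Units.coeHom (Matrix (Fin n ⊕ Fin n) (Fin n ⊕ Fin n) F))
      (fun u v : (Fin n ⊕ Fin n → F) =>
        ∑ i : Fin n, (u (Sum.inl i) * v (Sum.inr i) + u (Sum.inr i) * v (Sum.inl i)))) ≃*
      ↥(Matrix.symplecticGroup (Fin n) F)) := by
  classical
  let φ : ↥(Cfsg.preserving (Units.coeHom (Matrix (Fin n ⊕ Fin n) (Fin n ⊕ Fin n) F))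
      (fun u v : (Fin n ⊕ Fin n → F) =>
        ∑ i : Fin n, (u (Sum.inl i) * v (Sum.inr i) + u (Sum.inr i) * v (Sum.inl i)))) →*
      ↥(Matrix.symplecticGroup (Fin n) F) :=
    { toFun := fun g => ⟨((g : GL (Fin n ⊕ Fin n) F) : Matrix _ _ F),
        by rw [mem_symplectic_iff]; exact g.2⟩
      map_one' := rfl
      map_mul' := fun _ _ => rfl }
  refine ⟨MulEquiv.ofBijective φ ⟨fun g g' h => ?_, fun A => ?_⟩⟩
  · exact Subtype.ext (Units.ext (congrArg Subtype.val h))
  · refine ⟨⟨Units.map (Submonoid.subtype _) (toUnits A), fun u v => ?_⟩, Subtype.ext rfl⟩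
    exact (mem_symplectic_iff _).1 A.2 u v

end Cfsg.Agent.SpTrans63
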