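import Cfsg.Agent.SpTrans63.Basic

/-!
The orthogonal group in characteristic two is generated by its Siegel elements and one reflection,
and the parity of the rank of `g - 1` tells the two cosets apart (helper63).
-/

set_option autoImplicit false
set_option linter.unusedSectionVars false

namespace Cfsg.Agent.SpTrans63

variable {F V : Type*} [Field F] [CharP F 2] [AddCommGroup V] [Module F V]

/-- A non-degenerate quadratic space whose singular vectors span. -/
structure QuadSpace (f : LinearMap.BilinForm F V) (Q : QuadraticForm F V) : Prop where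
  sf : SympForm f
  polar : ∀ u v, QuadraticMap.polar Q u v = f u v
  sing : ∀ z, z ≠ 0 → ∃ p, p ≠ 0 ∧ Q p = 0 ∧ f p z ≠ 0

variable {f : LinearMap.BilinForm F V} {Q : QuadraticForm F V}

theorem QuadSpace.add (h : QuadSpace f Q) (x y : V) : Q (x + y) = Q x + Q y + f x y := by
  rw [← h.polar, QuadraticMap.polar]; ring

/-- Isometries of `Q`. -/
def OIso (Q : QuadraticForm F V) (g : V ≃ₗ[F] V) : Prop := ∀ x, Q (g x) = Q x

theorem OIso.mul {g h : V ≃ₗ[F] V} (hg : OIso Q g) (hh : OIso Q h) : OIso Q (g * h) :=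
  fun x => (hg (h x)).trans (hh x)

theorem OIso.inv {g : V ≃ₗ[F] V} (hg : OIso Q g) : OIso Q g⁻¹ := fun x => by
  have h := hg (g.symm x)
  rw [LinearEquiv.apply_symm_apply] at h
  exact h.symm

theorem OIso.iso (hQ : QuadSpace f Q) {g : V ≃ₗ[F] V} (hg : OIso Q g) : Iso f g := fun u v => by
  simp [← hQ.polar, QuadraticMap.polar, ← map_add, hg _]

/-- Siegel elements. -/
def IsSiegel (f : LinearMap.BilinForm F V) (Q : QuadraticForm F V) (g : V ≃ₗ[F] V) : Prop :=
  ∃ p w, p ≠ 0 ∧ Q p = 0 ∧ f w p = 0 ∧ IsRad f g p w (Q w)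

/-- Reflections. -/
def IsRefl (f : LinearMap.BilinForm F V) (Q : QuadraticForm F V) (g : V ≃ₗ[F] V) : Prop :=
  ∃ z, Q z ≠ 0 ∧ IsRad f g z 0 (Q z)⁻¹

theorem IsSiegel.oiso (hQ : QuadSpace f Q) {g : V ≃ₗ[F] V} (h : IsSiegel f Q g) : OIso Q g := by
  obtain ⟨p, w, _, hp, hw, hg⟩ := h
  intro v
  rw [hg v, rad]
  simp only [hQ.add, QuadraticMap.map_smul, map_add, map_smul, LinearMap.add_apply,
    LinearMap.smul_apply, hp, smul_eq_mul, hw, hQ.sf.symm p w, hQ.sf.alt, mul_zero, add_zero]
  have h2 : (2 : F) = 0 := CharTwo.two_eq_zero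
  linear_combination (f v w * f v p + Q w * f v p * f v p) * h2

theorem rad_inv (hf : SympForm f) {g : V ≃ₗ[F] V} {a w : V} {c : F} (h : IsRad f g a w c)
    (hw : f w a = 0) : g * g = 1 := by
  refine LinearEquiv.ext fun v => ?_
  have h' := h.mul hf h hw hw v
  rw [hf.alt, CharTwo.add_self_eq_zero, add_zero, vadd_self F w, rad_zero] at h'
  exact h'

theorem IsRefl.oiso (hQ : QuadSpace f Q) {g : V ≃ₗ[F] V} (h : IsRefl f Q g) : OIso Q g := by
  obtain ⟨z, hz, hg⟩ := h
  intro v
  rw [hg v, rad]
  simp only [hQ.add, QuadraticMap.map_smul, map_add, map_smul, map_zero, smul_eq_mul, mul_zero,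
    zero_smul, add_zero, smul_zero]
  have h2 : (2 : F) = 0 := CharTwo.two_eq_zero
  field_simp
  linear_combination (f v z * f v z) * h2

theorem IsSiegel.conj (hQ : QuadSpace f Q) {g h : V ≃ₗ[F] V} (hg : IsSiegel f Q g)
    (hh : OIso Q h) : IsSiegel f Q (h * g * h⁻¹) := by
  obtain ⟨p, w, hp0, hp, hw, hg⟩ := hg
  refine ⟨h p, h w, by simpa using hp0, by rw [hh, hp], by rw [hh.iso hQ, hw], ?_⟩
  rw [hh w]
  exact hg.conj hQ.sf (hh.iso hQ)

/-- The group generated by Siegel elements. -/
def siegelGroup (f : LinearMap.BilinForm F V) (Q : QuadraticForm F V) : Subgroup (V ≃ₗ[F] V) :=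
  Subgroup.closure {g | IsSiegel f Q g}

theorem siegelGroup_oiso (hQ : QuadSpace f Q) {g : V ≃ₗ[F] V} (hg : g ∈ siegelGroup f Q) :
    OIso Q g := by
  induction hg using Subgroup.closure_induction with
  | mem x hx => exact IsSiegel.oiso hQ hx
  | one => exact fun x => rfl
  | mul x y _ _ hx hy => exact hx.mul hy
  | inv x _ hx => exact hx.inv

theorem siegelGroup_conj (hQ : QuadSpace f Q) {g h : V ≃ₗ[F] V} (hh : OIso Q h)
    (hg : g ∈ siegelGroup f Q) : h * g * h⁻¹ ∈ siegelGroup f Q := by
  induction hg using Subgroup.closure_induction with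
  | mem x hx => exact Subgroup.subset_closure (IsSiegel.conj hQ hx hh)
  | one => simp [one_mem]
  | mul x y _ _ hx hy =>
    rw [show h * (x * y) * h⁻¹ = h * x * h⁻¹ * (h * y * h⁻¹) by group]
    exact mul_mem hx hy
  | inv x _ hx =>
    rw [show h * x⁻¹ * h⁻¹ = (h * x * h⁻¹)⁻¹ by group]
    exact inv_mem hx

/-- A Siegel element at a singular point moves one vector to another of equal value. -/
theorem exists_siegel_move (hQ : QuadSpace f Q) {u a b : V} (hu0 : u ≠ 0) (hu : Q u = 0)
    (hab : Q a = Q b) (hua : f u a = f u b) (hk : f u a ≠ 0) :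
    ∃ s ∈ siegelGroup f Q, s a = b ∧ s u = u := by
  set w := (f u a)⁻¹ • (a + b) with hw
  have hwu : f w u = 0 := by
    simp [hw, hQ.sf.symm a u, hQ.sf.symm b u, hua, CharTwo.add_self_eq_zero]
  obtain ⟨s, hs⟩ := exists_isRad hQ.sf u hwu (Q w)
  refine ⟨s, Subgroup.subset_closure ⟨u, w, hu0, hu, hwu, hs⟩, ?_, ?_⟩
  · rw [hs a, rad]
    have e1 : f a w + Q w * f a u = 0 := by
      simp only [hw, QuadraticMap.map_smul, hQ.add, map_add, map_smul, hQ.sf.alt, smul_eq_mul,
        hQ.sf.symm a u, hab, CharTwo.add_self_eq_zero, zero_add]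
      field_simp
      have h2 : (2 : F) = 0 := CharTwo.two_eq_zero
      linear_combination (f a b) * h2
    have e2 : f a u • w = a + b := by
      rw [hQ.sf.symm a u, hw, smul_smul, mul_inv_cancel₀ hk, one_smul]
    rw [e2]
    have e3 : a + f a w • u + (a + b) + (Q w * f a u) • u =
        (a + a) + b + (f a w + Q w * f a u) • u := by module
    rw [e3, e1, vadd_self F a, zero_smul, add_zero, zero_add]
  · rw [hs u, rad]
    simp [hQ.sf.symm u w, hwu, hQ.sf.alt]

variable [FiniteDimensional F V]

/-- Two non-perpendicular vectors have a non-singular common perpendicular. -/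
theorem QuadSpace.exists_perp_nonsing (hQ : QuadSpace f Q) (hdim : 2 < Module.finrank F V)
    {a b : V} (hab : f a b ≠ 0) : ∃ w, f w a = 0 ∧ f w b = 0 ∧ Q w ≠ 0 := by
  obtain ⟨w, hwa, hwb, hw⟩ := SympForm.exists_perp (f := f) a b ⊥ (by simpa using hdim)
  have hw' : w ∉ Submodule.span F ({a, b} : Set V) := fun h => hw (by
    obtain ⟨x, y, hxy⟩ := Submodule.mem_span_pair.1 h
    have hb : f w b = x * f a b := by rw [← hxy]; simp [hQ.sf.alt]
    have ha : f w a = y * f a b := by rw [← hxy]; simp [hQ.sf.alt, hQ.sf.symm b a]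
    rw [hwb] at hb; rw [hwa] at ha
    rw [← hxy, (mul_eq_zero.1 hb.symm).resolve_right hab,
      (mul_eq_zero.1 ha.symm).resolve_right hab]
    simp)
  obtain ⟨z, hz, hzw⟩ := hQ.sf.exists_pair _ hw'
  have hza := hz a (Submodule.subset_span (Set.mem_insert _ _))
  have hzb := hz b (Submodule.subset_span (Set.mem_insert_of_mem _ rfl))
  by_contra h
  push Not at h
  have h0 := h (z + w) (by simp [hza, hwa]) (by simp [hzb, hwb])
  rw [hQ.add, h z hza hzb, h w hwa hwb, hzw] at h0
  simp at h0

theorem exists_pair_mult [Finite F] (x : F) : ∃ y : F, y * y = x := by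
  have h : Function.Injective (fun y : F => y * y) := fun a b hab => by
    have h' : (a + b) * (a + b) = 0 := by
      rw [CharTwo.add_mul_self]
      simp only at hab
      rw [hab, CharTwo.add_self_eq_zero]
    exact CharTwo.add_eq_zero.1 (mul_self_eq_zero.1 h')
  exact Finite.injective_iff_surjective.1 h x

/-- The Siegel group is transitive on non-zero singular vectors. -/
theorem siegel_trans [Finite F] (hQ : QuadSpace f Q) (hdim : 2 < Module.finrank F V) {a b : V}
    (ha0 : a ≠ 0) (hb0 : b ≠ 0) (ha : Q a = 0) (hb : Q b = 0) :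
    ∃ s ∈ siegelGroup f Q, s a = b := by
  have nonperp : ∀ a b : V, Q a = 0 → Q b = 0 → f a b ≠ 0 →
      ∃ s ∈ siegelGroup f Q, s a = b := by
    intro a b ha hb hab
    have hs : a + b ≠ 0 := fun h => hab (by rw [eq_of_add_eq_zero' F h, hQ.sf.alt])
    have hns : a ∉ (F ∙ (a + b)) := fun h => hab (by
      obtain ⟨t, ht⟩ := Submodule.mem_span_singleton.1 h
      have h1 : f a a = t * f b a := by
        conv_lhs => arg 1; arg 2; rw [← ht]
        simp [hQ.sf.alt]
      rw [hQ.sf.alt, hQ.sf.symm b a] at h1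
      rcases mul_eq_zero.1 h1.symm with h0 | h0
      · rw [h0, zero_smul] at ht; rw [← ht]; simp
      · exact h0)
    obtain ⟨z, hz, hza⟩ := hQ.sf.exists_pair _ hns
    have hzs : f z (a + b) = 0 := hz _ (Submodule.mem_span_singleton_self _)
    have hz' : ∃ z, f z a = 1 ∧ f z b = 1 ∧ Q z * f a b ≠ 1 := by
      have hzb : f z b = 1 := by
        rw [map_add, CharTwo.add_eq_zero] at hzs
        rw [← hzs, hza]
      by_cases h1 : Q z * f a b = 1
      · obtain ⟨w, hwa, hwb, hw⟩ := hQ.exists_perp_nonsing hdim hab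
        by_cases hzw : Q w + f z w = 0
        · obtain ⟨k, hk⟩ : ∃ k : F, k = k := ⟨0, rfl⟩
          -- replace `w` by another multiple
          by_cases h2 : ∃ l : F, l ≠ 0 ∧ l ≠ 1
          · obtain ⟨l, hl0, hl1⟩ := h2
            refine ⟨z + l • w, by simp [hza, hwa], by simp [hzb, hwb], fun h => ?_⟩
            rw [hQ.add, QuadraticMap.map_smul, map_smul, smul_eq_mul, smul_eq_mul] at h
            have h3 : l * (l + 1) * Q w * f a b = 0 := by
              linear_combination h - h1 - (l * f a b) * hzw + (l * Q w * f a b) *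
                (CharTwo.two_eq_zero : (2 : F) = 0)
            rcases mul_eq_zero.1 h3 with h4 | h4
            · rcases mul_eq_zero.1 h4 with h5 | h5
              · rcases mul_eq_zero.1 h5 with h6 | h6
                · exact hl0 h6
                · exact hl1 (CharTwo.add_eq_zero.1 h6)
              · exact hw h5
            · exact hab h4
          · -- two elements: shift by `a`
            push Not at h2
            have hQw : Q w = 1 := h2 _ hw
            have hab1 : f a b = 1 := h2 _ hab
            have hzw1 : f z w = 1 := by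
              rw [hQw, CharTwo.add_eq_zero] at hzw; exact hzw.symm
            obtain ⟨y, hy⟩ := hQ.sf.exists_pair (Submodule.span F ({a, b} : Set V))
              (w := w) (fun h => by
                obtain ⟨x, y, hxy⟩ := Submodule.mem_span_pair.1 h
                have h7 : f w b = x := by rw [← hxy]; simp [hQ.sf.alt, hab1]
                have h8 : f w a = y := by
                  rw [← hxy]; simp [hQ.sf.alt, hQ.sf.symm b a, hab1]
                rw [hwb] at h7; rw [hwa] at h8
                rw [← h7, ← h8] at hxy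
                exact hw (by rw [← hxy]; simp))
            have hya := hy.1 a (Submodule.subset_span (Set.mem_insert _ _))
            have hyb := hy.1 b (Submodule.subset_span (Set.mem_insert_of_mem _ rfl))
            by_cases hzy : Q y + f z y = 1
            · refine ⟨z + y, by simp [hza, hya], by simp [hzb, hyb], ?_⟩
              rw [hab1, mul_one] at h1 ⊢
              rw [hQ.add, h1, add_assoc, hzy, CharTwo.add_self_eq_zero]
              exact zero_ne_one
            · have hzy0 : Q y + f z y = 0 := by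
                by_contra h; exact hzy (h2 _ h)
              refine ⟨z + (y + w), by simp [hza, hya, hwa], by simp [hzb, hyb, hwb], ?_⟩
              rw [hab1, mul_one] at h1 ⊢
              rw [hQ.add, hQ.add y w, map_add, hQw, hzw1, hy.2, h1]
              intro h
              have h9 : (1 : F) = 0 := by
                linear_combination h - hzy0 - (CharTwo.two_eq_zero : (2 : F) = 0)
              exact one_ne_zero h9
        · refine ⟨z + w, by simp [hza, hwa], by simp [hzb, hwb], fun h => ?_⟩
          rw [hQ.add] at h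
          rcases mul_eq_zero.1 (show (Q w + f z w) * f a b = 0 by linear_combination h - h1) with
            h2 | h2
          · exact hzw h2
          · exact hab h2
      · exact ⟨z, hza, hzb, h1⟩
    obtain ⟨z, hza, hzb, hz1⟩ := hz'
    obtain ⟨k, hk⟩ := exists_pair_mult (Q z / f a b)
    have hk' : k * k * f a b = Q z := by rw [hk, div_mul_cancel₀ _ hab]
    set u := z + k • (a + b) with hu
    have hua : f u a = 1 + k * f a b := by
      simp [hu, hza, hQ.sf.alt, hQ.sf.symm b a]
    have hub : f u b = 1 + k * f a b := by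
      simp [hu, hzb, hQ.sf.alt]
    have hne : 1 + k * f a b ≠ 0 := fun h => hz1 (by
      have h' : k * f a b = 1 := (CharTwo.add_eq_zero.1 h).symm
      rw [← hk', show k * k * f a b * f a b = k * f a b * (k * f a b) by ring, h', one_mul])
    have hQu : Q u = 0 := by
      rw [hu, hQ.add, QuadraticMap.map_smul, hQ.add, ha, hb]
      simp only [map_smul, map_add, hza, hzb, zero_add, smul_eq_mul]
      rw [CharTwo.add_self_eq_zero, mul_zero, add_zero, hk', CharTwo.add_self_eq_zero]
    have hu0 : u ≠ 0 := fun h => hne (by rw [← hua, h]; simp)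
    obtain ⟨s, hs, hsa, -⟩ :=
      exists_siegel_move hQ hu0 hQu (ha.trans hb.symm) (hua.trans hub.symm) (hua ▸ hne)
    exact ⟨s, hs, hsa⟩
  -- a common non-perpendicular singular vector
  have hns : a ∉ (F ∙ (a + b)) ∨ b = a ∨ f a b = 0 := by
    by_cases h : f a b = 0
    · exact Or.inr (Or.inr h)
    · by_cases h' : a ∈ (F ∙ (a + b))
      · obtain ⟨t, ht⟩ := Submodule.mem_span_singleton.1 h'
        refine Or.inr (Or.inl ?_)
        have h1 : f a a = t * f b a := by
          conv_lhs => arg 1; arg 2; rw [← ht]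
          simp [hQ.sf.alt]
        rw [hQ.sf.alt, hQ.sf.symm b a] at h1
        exact absurd (by
          rw [(mul_eq_zero.1 h1.symm).resolve_right h, zero_smul] at ht; exact ht.symm) ha0
      · exact Or.inl h'
  by_cases hab : f a b = 0
  · have hu : ∃ u, Q u = 0 ∧ f u a ≠ 0 ∧ f u b ≠ 0 := by
      obtain ⟨p, hp0, hp, hpa⟩ := hQ.sing a ha0
      by_cases hpb : f p b = 0
      · obtain ⟨q, hq0, hq, hqb⟩ := hQ.sing b hb0
        by_cases hqa : f q a = 0
        · -- adjust `p + q` along `a`
          refine ⟨p + q + (f p q / f p a) • a, ?_, ?_, ?_⟩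
          · simp only [hQ.add, QuadraticMap.map_smul, map_smul, map_add, LinearMap.add_apply,
              hp, hq, ha, hqa, smul_eq_mul, zero_add, mul_zero, add_zero]
            rw [div_mul_cancel₀ _ hpa, CharTwo.add_self_eq_zero]
          · simpa [hQ.sf.alt, hqa] using hpa
          · simpa [hab, hpb] using hqb
        · exact ⟨q, hq, hqa, hqb⟩
      · exact ⟨p, hp, hpa, hpb⟩
    obtain ⟨u, hu, hua, hub⟩ := hu
    obtain ⟨s1, hs1, h1⟩ := nonperp a u ha hu (by rwa [hQ.sf.symm])
    obtain ⟨s2, hs2, h2⟩ := nonperp u b hu hb hub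
    exact ⟨s2 * s1, mul_mem hs2 hs1, by show s2 (s1 a) = b; rw [h1, h2]⟩
  · exact nonperp a b ha hb hab

/-- The Siegel group is transitive on vectors of value one. -/
theorem siegel_trans_one [Finite F] (hQ : QuadSpace f Q) (hdim : 2 < Module.finrank F V)
    {z z' : V} (hz : Q z = 1) (hz' : Q z' = 1) : ∃ s ∈ siegelGroup f Q, s z = z' := by
  have split : ∀ z : V, Q z = 1 → ∃ p, p ≠ 0 ∧ Q p = 0 ∧ Q (z + p) = 0 ∧ f p (z + p) = 1 := by
    intro z hz
    obtain ⟨p, hp0, hp, hpz⟩ := hQ.sing z (fun h => by simp [h] at hz)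
    refine ⟨(f p z)⁻¹ • p, smul_ne_zero (inv_ne_zero hpz) hp0, ?_, ?_, ?_⟩
    · simp [QuadraticMap.map_smul, hp]
    · rw [hQ.add, QuadraticMap.map_smul, hp, hz]
      simp [hQ.sf.symm z p, hpz, CharTwo.add_self_eq_zero]
    · simp [hQ.sf.alt, hpz]
  obtain ⟨p, hp0, hp, hp', hpp⟩ := split z hz
  obtain ⟨r, hr0, hr, hr', hrr⟩ := split z' hz'
  obtain ⟨s1, hs1, h1⟩ := siegel_trans hQ hdim hp0 hr0 hp hr
  have hs1o := siegelGroup_oiso hQ hs1
  have hd : f r (s1 (z + p)) = 1 := by rw [← h1, hs1o.iso hQ, hpp]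
  obtain ⟨s2, hs2, h2, h3⟩ := exists_siegel_move hQ hr0 hr (a := s1 (z + p)) (b := z' + r)
    (by rw [hs1o, hp', hr']) (hd.trans hrr.symm) (by rw [hd]; exact one_ne_zero)
  refine ⟨s2 * s1, mul_mem hs2 hs1, ?_⟩
  show s2 (s1 z) = z'
  have e : z = (z + p) + p := by rw [add_assoc, vadd_self F p, add_zero]
  rw [e, map_add, map_add, h1, h2, h3, add_assoc, vadd_self F r, add_zero]

/-- The image of `g - 1` is orthogonal to the fixed space. -/
theorem mem_image_of_perp (hf : SympForm f) {g : V ≃ₗ[F] V} (hg : Iso f g) {u : V}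
    (hu : ∀ y, g y = y → f u y = 0) : ∃ x, g x + x = u := by
  set T : V →ₗ[F] V := g.toLinearMap + LinearMap.id with hT
  have hTker : LinearMap.ker T = fixSp g := Submodule.ext fun x => by
    rw [mem_fixSp, LinearMap.mem_ker, hT]
    exact ⟨fun h => eq_of_add_eq_zero' F h, fun h => by simp [h, vadd_self F x]⟩
  have hle : LinearMap.range T ≤ LinearMap.BilinForm.orthogonal f (fixSp g) := by
    rintro _ ⟨x, rfl⟩ y hy
    rw [mem_fixSp] at hy
    have h := hg y x
    rw [hy] at h
    show f y (g x + x) = 0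
    rw [map_add, h, CharTwo.add_self_eq_zero]
  have heq := Submodule.eq_of_le_of_finrank_le hle (by
    rw [LinearMap.BilinForm.finrank_orthogonal hf.nondeg]
    have := T.finrank_range_add_finrank_ker
    rw [hTker] at this
    omega)
  have hmem : u ∈ LinearMap.range T := by
    rw [heq]
    intro y hy
    rw [mem_fixSp] at hy
    show f y u = 0
    rw [hf.symm]
    exact hu y hy
  obtain ⟨x, hx⟩ := hmem
  exact ⟨x, hx⟩

theorem perp_image {g : V ≃ₗ[F] V} (hg : Iso f g) (x : V) {y : V} (hy : g y = y) :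
    f (g x + x) y = 0 := by
  have h := hg x y
  rw [hy] at h
  rw [map_add, LinearMap.add_apply, h, CharTwo.add_self_eq_zero]

/-- A reflection changes the fixed space by one dimension. -/
theorem refl_flip (hQ : QuadSpace f Q) {g h : V ≃ₗ[F] V} (hg : OIso Q g) (hh : IsRefl f Q h) :
    (Even (Module.finrank F (fixSp (h * g))) ↔ ¬ Even (Module.finrank F (fixSp g))) := by
  obtain ⟨z, hz, hh⟩ := hh
  have hv : ∀ v, h v = v + ((Q z)⁻¹ * f v z) • z := fun v => by rw [hh v]; simp [rad]
  have hgi := hg.iso hQ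
  have hinv : ∀ v, h (h v) = v := fun v => LinearEquiv.congr_fun (rad_inv hQ.sf hh (by simp)) v
  have hmem : ∀ x, x ∈ fixSp (h * g) ↔ g x = x + ((Q z)⁻¹ * f x z) • z := fun x => by
    rw [mem_fixSp, ← hv]
    exact ⟨fun e => by rw [← hinv (g x)]; exact congrArg h e,
      fun e => by show h (g x) = x; rw [e, hinv]⟩
  by_cases hu : ∀ y, g y = y → f z y = 0
  · obtain ⟨x, hx⟩ := mem_image_of_perp hQ.sf hgi hu
    have hgx : g x = x + z := by
      rw [← hx, add_comm (g x) x, ← add_assoc, vadd_self F x, zero_add]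
    have hfx : f x z = Q z := by
      have h1 := hg x
      rw [hgx, hQ.add] at h1
      have h2 : Q z + f x z = 0 := by linear_combination h1
      exact (CharTwo.add_eq_zero.1 h2).symm
    have hxn : x ∉ fixSp g := fun h' => hz (by
      rw [mem_fixSp, hgx, add_eq_left] at h'
      simp [h'])
    have heq : fixSp (h * g) = fixSp g ⊔ (F ∙ x) := by
      refine le_antisymm (fun y hy => ?_) (sup_le (fun y hy => ?_) ?_)
      · rw [hmem] at hy
        set c := (Q z)⁻¹ * f y z with hc
        refine Submodule.mem_sup.2 ⟨y + c • x, ?_, c • x,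
          Submodule.smul_mem _ _ (Submodule.mem_span_singleton_self x), ?_⟩
        · rw [mem_fixSp, map_add, map_smul, hy, hgx, smul_add]
          have e := smul_self_add c z
          linear_combination (norm := module) e
        · rw [add_assoc, smul_self_add, add_zero]
      · rw [mem_fixSp] at hy
        rw [hmem, hy, hQ.sf.symm, hu y hy, mul_zero, zero_smul, add_zero]
      · rw [Submodule.span_singleton_le_iff_mem, hmem, hfx, inv_mul_cancel₀ hz, one_smul, hgx]
    have hx0 : x ≠ 0 := fun h' => hxn (by simp [h'])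
    have h3 := Submodule.finrank_sup_add_finrank_inf_eq (fixSp g) (F ∙ x)
    have h4 : fixSp g ⊓ (F ∙ x) = ⊥ := by
      rw [← disjoint_iff, Submodule.disjoint_span_singleton' hx0]; exact hxn
    rw [h4, finrank_bot, finrank_span_singleton hx0] at h3
    rw [heq, show Module.finrank F ↥(fixSp g ⊔ F ∙ x) = Module.finrank F (fixSp g) + 1 by omega,
      Nat.even_add_one]
  · push Not at hu
    obtain ⟨y0, hy0, hzy⟩ := hu
    let T : V →ₗ[F] F := f.flip z
    have heq : fixSp (h * g) = fixSp g ⊓ LinearMap.ker T := by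
      ext x
      rw [hmem, Submodule.mem_inf, mem_fixSp, LinearMap.mem_ker]
      refine ⟨fun e => ?_, fun ⟨e, e'⟩ => ?_⟩
      · have hc : (Q z)⁻¹ * f x z = 0 := by
          by_contra hc
          have h1 := perp_image hgi x hy0
          rw [e, add_comm x, add_assoc, vadd_self F x, add_zero, map_smul, LinearMap.smul_apply,
            smul_eq_mul] at h1
          exact hc ((mul_eq_zero.1 h1).resolve_right hzy)
        refine ⟨by rw [e, hc, zero_smul, add_zero], ?_⟩
        exact (mul_eq_zero.1 hc).resolve_left (inv_ne_zero hz)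
      · have e'' : f x z = 0 := e'
        rw [e, e'', mul_zero, zero_smul, add_zero]
    have hT : T y0 ≠ 0 := by
      show f y0 z ≠ 0
      rwa [hQ.sf.symm]
    have h3 := Submodule.finrank_sup_add_finrank_inf_eq (fixSp g) (LinearMap.ker T)
    have h4 := T.finrank_range_add_finrank_ker
    have h5 : Module.finrank F (LinearMap.range T) = 1 := by
      have hle := Submodule.finrank_le (LinearMap.range T)
      rw [Module.finrank_self] at hle
      have hne : LinearMap.range T ≠ ⊥ := fun h' => hT (by
        have : T y0 ∈ LinearMap.range T := ⟨y0, rfl⟩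
        rw [h'] at this; simpa using this)
      have := Submodule.one_le_finrank_iff.2 hne
      omega
    have h6 : fixSp g ⊔ LinearMap.ker T = ⊤ := by
      refine Submodule.eq_top_of_finrank_eq ?_
      have hlt : LinearMap.ker T < fixSp g ⊔ LinearMap.ker T :=
        lt_of_le_of_ne le_sup_right fun h' => hT (by
          have : y0 ∈ LinearMap.ker T := h' ▸ Submodule.mem_sup_left (mem_fixSp.2 hy0)
          exact this)
      have := Submodule.finrank_lt_finrank_of_lt hlt
      have := Submodule.finrank_le (fixSp g ⊔ LinearMap.ker T)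
      omega
    rw [h6, finrank_top] at h3
    rw [heq, show Module.finrank F (fixSp g) =
      Module.finrank F ↥(fixSp g ⊓ LinearMap.ker T) + 1 by omega, Nat.even_add_one, not_not]

/-- A Siegel element keeps the parity of the fixed space. -/
theorem siegel_parity (hQ : QuadSpace f Q) {g s : V ≃ₗ[F] V} (hg : OIso Q g)
    (hs : IsSiegel f Q s) :
    (Even (Module.finrank F (fixSp (s * g))) ↔ Even (Module.finrank F (fixSp g))) := by
  obtain ⟨a, w, ha0, ha, hwa, hs⟩ := hs
  have haw : f a w = 0 := by rw [hQ.sf.symm, hwa]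
  by_cases hw : Q w = 0
  swap
  · -- two reflections
    set z := w + Q w • a with hzdef
    have hQz : Q z = Q w := by
      rw [hzdef, hQ.add, QuadraticMap.map_smul, ha]
      simp [hwa]
    obtain ⟨h1, hh1⟩ := exists_isRad hQ.sf w (w := (0 : V)) (by simp) (Q w)⁻¹
    obtain ⟨h2, hh2⟩ := exists_isRad hQ.sf z (w := (0 : V)) (by simp) (Q z)⁻¹
    have hr1 : IsRefl f Q h1 := ⟨w, hw, hh1⟩
    have hr2 : IsRefl f Q h2 := ⟨z, by rw [hQz]; exact hw, hh2⟩
    have e : s = h1 * h2 := LinearEquiv.ext fun v => by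
      show s v = h1 (h2 v)
      rw [hs v, hh1, hh2, hQz]
      simp only [rad, hzdef, map_add, map_smul, map_zero, LinearMap.add_apply,
        LinearMap.smul_apply, smul_eq_mul, hQ.sf.alt, hwa, haw, smul_add, smul_smul, mul_zero,
        zero_smul, smul_zero, add_zero]
      have h2' : (2 : F) = 0 := CharTwo.two_eq_zero
      match_scalars <;> (try simp only [LinearMap.zero_apply, mul_zero, add_zero]) <;> field_simp
      all_goals first
        | linear_combination (f v w) * h2'
        | linear_combination (-(f v w)) * h2'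
        | linear_combination (f v a * Q w) * h2'
        | ring
    rw [e, mul_assoc, refl_flip hQ ((hr2.oiso hQ).mul hg) hr1, refl_flip hQ hg hr2, not_not]
  let σ : V →ₗ[F] V := (f.flip w).smulRight a + (f.flip a).smulRight w
  have hσ : ∀ v, σ v = f v w • a + f v a • w := fun v => by simp [σ]
  have hsv : ∀ v, s v = v + σ v := fun v => by
    rw [hs v, hσ, rad, hw, zero_mul, zero_smul, add_zero, add_assoc]
  have hσσ : ∀ v, σ (σ v) = 0 := fun v => by
    simp [hσ v, map_add, hσ a, hσ w, haw, hwa, hQ.sf.alt]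
  have hss : ∀ v, s (s v) = v := fun v => by
    rw [hsv, hsv v, map_add, hσσ, add_zero, add_assoc, vadd_self F (σ v), add_zero]
  have hσf : ∀ x y, f (σ x) y = f (σ y) x := fun x y => by
    simp only [hσ, map_add, map_smul, LinearMap.add_apply, LinearMap.smul_apply, smul_eq_mul,
      hQ.sf.symm a y, hQ.sf.symm w y, hQ.sf.symm a x, hQ.sf.symm w x]
    ring
  have hσ2 : ∀ x, f (σ x) x = 0 := fun x => by
    simp only [hσ, map_add, map_smul, LinearMap.add_apply, LinearMap.smul_apply, smul_eq_mul,
      hQ.sf.symm a x, hQ.sf.symm w x]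
    rw [mul_comm (f x w), CharTwo.add_self_eq_zero]
  have hσQ : ∀ x, Q (σ x) = 0 := fun x => by
    simp [hσ, hQ.add, QuadraticMap.map_smul, ha, hw, haw]
  set U := Submodule.span F ({a, w} : Set V)
  have hU : Module.finrank F U ≤ 2 := by
    classical
    have h := finrank_span_finset_le_card (R := F) ({a, w} : Finset V)
    have h' : ({a, w} : Finset V).card ≤ 2 := Finset.card_le_two
    rw [Finset.coe_pair] at h
    simp only [Set.finrank] at h
    exact h.trans h'
  have hσU : ∀ g : V ≃ₗ[F] V, (fixSp g).map σ ≤ U := fun g => by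
    rintro _ ⟨x, _, rfl⟩
    rw [hσ]
    exact Submodule.add_mem _
      (Submodule.smul_mem _ _ (Submodule.subset_span (Set.mem_insert _ _)))
      (Submodule.smul_mem _ _ (Submodule.subset_span (Set.mem_insert_of_mem _ rfl)))
  have hdec : ∀ g : V ≃ₗ[F] V, Module.finrank F (fixSp g) =
      Module.finrank F ((fixSp g).map σ) + Module.finrank F ↥(fixSp g ⊓ LinearMap.ker σ) := by
    intro g
    have h := (σ.domRestrict (fixSp g)).finrank_range_add_finrank_ker
    rw [LinearMap.range_domRestrict, LinearMap.ker_domRestrict] at h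
    rw [← h]
    congr 1
    rw [← Submodule.finrank_map_subtype_eq, Submodule.map_comap_subtype]
  have hsg : OIso Q (s * g) := (IsSiegel.oiso hQ ⟨a, w, ha0, ha, hwa, hs⟩).mul hg
  have hker : ∀ g : V ≃ₗ[F] V,
      fixSp (s * g) ⊓ LinearMap.ker σ = fixSp g ⊓ LinearMap.ker σ := fun g => by
    ext x
    simp only [Submodule.mem_inf, mem_fixSp, LinearMap.mem_ker]
    refine and_congr_left fun hx => ?_
    have hsx : s x = x := by rw [hsv, hx, add_zero]
    exact ⟨fun h => by rw [← hss (g x), show s (g x) = x from h, hsx],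
      fun h => by show s (g x) = x; rw [h, hsx]⟩
  have key : ∀ g : V ≃ₗ[F] V, OIso Q g → Module.finrank F ((fixSp g).map σ) = 1 →
      Module.finrank F ((fixSp (s * g)).map σ) = 1 := by
    intro g hg h1
    obtain ⟨u, huU, hu0⟩ : ∃ u ∈ (fixSp g).map σ, u ≠ 0 := by
      apply Submodule.exists_mem_ne_zero_of_ne_bot
      intro h; rw [h, finrank_bot] at h1; exact absurd h1 (by omega)
    obtain ⟨y0, hy0, rfl⟩ := huU
    have hy0' : g y0 = y0 := mem_fixSp.1 hy0
    have hspan : F ∙ σ y0 = (fixSp g).map σ :=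
      Submodule.eq_of_le_of_finrank_le
        ((Submodule.span_singleton_le_iff_mem _ _).2 (Submodule.mem_map_of_mem hy0))
        (by rw [h1, finrank_span_singleton hu0])
    have hperp : ∀ y, g y = y → f (σ y0) y = 0 := fun y hy => by
      obtain ⟨k, hk⟩ := Submodule.mem_span_singleton.1
        (hspan ▸ Submodule.mem_map_of_mem (mem_fixSp.2 hy) : σ y ∈ F ∙ σ y0)
      rw [hσf, ← hk, map_smul, LinearMap.smul_apply, hσ2, smul_zero]
    obtain ⟨x0, hx0⟩ := mem_image_of_perp hQ.sf (hg.iso hQ) hperp
    have hgx0 : g x0 = x0 + σ y0 := by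
      rw [← hx0, add_comm (g x0) x0, ← add_assoc, vadd_self F x0, zero_add]
    have hfx : f x0 (σ y0) = 0 := by
      have h2 := hg x0
      rw [hgx0, hQ.add, hσQ, add_zero] at h2
      linear_combination h2
    obtain ⟨k, hk⟩ : ∃ k : F, σ x0 = k • σ y0 := by
      have e : f y0 w * f x0 a = f y0 a * f x0 w := by
        simp only [hσ, map_add, map_smul, smul_eq_mul] at hfx
        exact CharTwo.add_eq_zero.1 hfx
      simp only [hσ]
      by_cases hA : f y0 a = 0
      · have hB : f y0 w ≠ 0 := fun hB => hu0 (by simp [hσ, hA, hB])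
        rw [hA, zero_mul] at e
        refine ⟨f x0 w / f y0 w, ?_⟩
        rw [(mul_eq_zero.1 e).resolve_left hB, hA, smul_add, smul_smul, smul_smul,
          div_mul_cancel₀ _ hB, mul_zero]
      · refine ⟨f x0 a / f y0 a, ?_⟩
        rw [smul_add, smul_smul, smul_smul, div_mul_cancel₀ _ hA, div_mul_eq_mul_div,
          mul_comm (f x0 a), e, mul_div_cancel_left₀ _ hA]
    set x := x0 + (1 + k) • y0 with hx
    have hσx : σ x = σ y0 := by
      rw [hx, map_add, map_smul, hk]
      have e := smul_self_add k (σ y0)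
      linear_combination (norm := module) e
    have hxfix : x ∈ fixSp (s * g) := by
      rw [mem_fixSp]
      show s (g x) = x
      have hgx : g x = x + σ y0 := by
        rw [hx, map_add, map_smul, hy0', hgx0]; abel
      rw [hgx, hsv, map_add, hσσ, add_zero, hσx, add_assoc, vadd_self F, add_zero]
    have hge : 1 ≤ Module.finrank F ((fixSp (s * g)).map σ) :=
      Submodule.one_le_finrank_iff.2 fun h => hu0 (by
        have : σ x ∈ (fixSp (s * g)).map σ := Submodule.mem_map_of_mem hxfix
        rw [h, Submodule.mem_bot, hσx] at this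
        exact this)
    have hle := Submodule.finrank_mono (hσU (s * g))
    by_contra hne
    have htop := Submodule.eq_of_le_of_finrank_le (hσU (s * g)) (by omega)
    have himg : ∀ v ∈ U, ∀ y, g y = y → f v y = 0 := fun v hv y hy => by
      rw [← htop] at hv
      obtain ⟨x', hx', rfl⟩ := hv
      have h2 : g x' = x' + σ x' := by
        rw [← hss (g x'), show s (g x') = x' from mem_fixSp.1 hx', hsv]
      have h3 := perp_image (hg.iso hQ) x' hy
      rw [h2, add_comm x', add_assoc, vadd_self F x', add_zero] at h3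
      exact h3
    apply hu0
    rw [hσ, hQ.sf.symm y0 w, hQ.sf.symm y0 a,
      himg w (Submodule.subset_span (Set.mem_insert_of_mem _ rfl)) y0 hy0',
      himg a (Submodule.subset_span (Set.mem_insert _ _)) y0 hy0', zero_smul, zero_smul, add_zero]
  have k1 := key g hg
  have k2 := key (s * g) hsg
  have hself : s * (s * g) = g := LinearEquiv.ext fun v => hss (g v)
  rw [hself] at k2
  have b1 := Submodule.finrank_mono (hσU g)
  have b2 := Submodule.finrank_mono (hσU (s * g))
  rw [hdec g, hdec (s * g), hker g, Nat.even_iff, Nat.even_iff]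
  omega

theorem siegelGroup_parity (hQ : QuadSpace f Q) {s : V ≃ₗ[F] V} (hs : s ∈ siegelGroup f Q) :
    ∀ g, OIso Q g →
      (Even (Module.finrank F (fixSp (s * g))) ↔ Even (Module.finrank F (fixSp g))) := by
  induction hs using Subgroup.closure_induction with
  | mem x hx => exact fun g hg => siegel_parity hQ hg hx
  | one => intro g _; rw [one_mul]
  | mul x y _ hy hx ihy =>
    intro g hg
    rw [mul_assoc, hx _ ((siegelGroup_oiso hQ hy).mul hg), ihy g hg]
  | inv x hx ih =>
    intro g hg
    have h := ih (x⁻¹ * g) ((siegelGroup_oiso hQ hx).inv.mul hg)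
    rw [mul_inv_cancel_left] at h
    exact h.symm

theorem even_fix_iff (g : V ≃ₗ[F] V) (hd : Even (Module.finrank F V)) :
    Even (Module.finrank F (LinearMap.range (g.toLinearMap - LinearMap.id))) ↔
      Even (Module.finrank F (fixSp g)) := by
  have h := (g.toLinearMap - LinearMap.id).finrank_range_add_finrank_ker
  rw [← h, Nat.even_add] at hd
  exact hd

/-- A group of isometries with all Siegel elements is everything or the even part. -/
theorem orth_cases [Finite F] (hQ : QuadSpace f Q) (hdim : 2 < Module.finrank F V)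
    (hd : Even (Module.finrank F V)) (L : Subgroup (V ≃ₗ[F] V)) (hL : ∀ g ∈ L, OIso Q g)
    (hS : ∀ g, IsSiegel f Q g → g ∈ L) :
    (∀ g, g ∈ L ↔ OIso Q g) ∨ ∀ g, g ∈ L ↔ OIso Q g ∧
      Even (Module.finrank F (LinearMap.range (g.toLinearMap - LinearMap.id))) := by
  have hSL : siegelGroup f Q ≤ L := (Subgroup.closure_le L).2 fun g hg => hS g hg
  haveI : Nontrivial V := Module.nontrivial_of_finrank_pos (R := F) (by omega)
  obtain ⟨z0, hz0⟩ : ∃ z, Q z = 1 := by
    obtain ⟨p, hp⟩ := exists_ne (0 : V)
    obtain ⟨a, ha0, ha, hap⟩ := hQ.sing p hp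
    obtain ⟨b, hb0, hb, hba⟩ := hQ.sing a ha0
    exact ⟨a + (f b a)⁻¹ • b, by
      simp [hQ.add, QuadraticMap.map_smul, ha, hb, hQ.sf.symm a b, hba]⟩
  obtain ⟨r0, hr0⟩ := exists_isRad hQ.sf z0 (w := (0 : V)) (by simp) (Q z0)⁻¹
  have hR0 : IsRefl f Q r0 := ⟨z0, by rw [hz0]; exact one_ne_zero, hr0⟩
  have hr02 : r0 * r0 = 1 := rad_inv hQ.sf hr0 (by simp)
  have hrinv : r0⁻¹ = r0 := inv_eq_of_mul_eq_one_right hr02
  set S := siegelGroup f Q with hSdef
  have hnorm : ∀ x ∈ S, r0 * x * r0 ∈ S := fun x hx => by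
    have h := siegelGroup_conj hQ (hR0.oiso hQ) hx
    rwa [hrinv] at h
  have hrefl : ∀ h, IsRefl f Q h → h * r0 ∈ S := by
    rintro h ⟨z, hz, hh⟩
    obtain ⟨l, hl⟩ := exists_pair_mult (Q z)⁻¹
    have hl0 : l ≠ 0 := fun e => inv_ne_zero hz (by rw [← hl, e, mul_zero])
    have hQ1 : Q (l • z) = 1 := by
      rw [QuadraticMap.map_smul, hl, smul_eq_mul, inv_mul_cancel₀ hz]
    obtain ⟨t, ht, hts⟩ := siegel_trans_one hQ hdim hz0 hQ1
    have e : h = t * r0 * t⁻¹ := by
      refine hh.eq (fun v => ?_)
      have hc := hr0.conj hQ.sf ((siegelGroup_oiso hQ ht).iso hQ) v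
      rw [hc, map_zero, hts, hz0, inv_one, rad_smul, smul_zero, mul_one, hl]
    rw [e, mul_assoc, mul_assoc]
    refine mul_mem ht ?_
    rw [← mul_assoc]
    exact hnorm _ (inv_mem ht)
  have hgen : ∀ g, OIso Q g → g ∈ S ∨ g * r0 ∈ S := by
    have left : ∀ h g : V ≃ₗ[F] V, IsRefl f Q h → (g ∈ S ∨ g * r0 ∈ S) →
        h * g ∈ S ∨ h * g * r0 ∈ S := by
      intro h g hh hg
      rcases hg with hg | hg
      · refine Or.inr ?_
        rw [show h * g * r0 = h * r0 * (r0 * g * r0) by
          simp only [mul_assoc]; rw [← mul_assoc r0 r0, hr02, one_mul]]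
        exact mul_mem (hrefl h hh) (hnorm g hg)
      · refine Or.inl ?_
        rw [show h * g = h * r0 * (r0 * (g * r0) * r0) by
          simp only [mul_assoc]; rw [← mul_assoc r0 r0, hr02, one_mul, mul_one]]
        exact mul_mem (hrefl h hh) (hnorm _ hg)
    refine descent _ (OIso Q) (Or.inl S.one_mem) fun g x hg hx => ?_
    by_cases hall : ∃ y, Q (g y + y) ≠ 0
    · obtain ⟨y, hy⟩ := hall
      obtain ⟨h, hh⟩ := exists_isRad hQ.sf (g y + y) (w := (0 : V)) (by simp) (Q (g y + y))⁻¹
      have hR : IsRefl f Q h := ⟨_, hy, hh⟩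
      have hv : ∀ v, h v = v + ((Q (g y + y))⁻¹ * f v (g y + y)) • (g y + y) := fun v => by
        rw [hh v]; simp [rad]
      refine ⟨h, (hR.oiso hQ).mul hg, SetLike.lt_iff_le_and_exists.2 ⟨fun u hu => ?_, y, ?_, ?_⟩,
        fun hP => ?_⟩
      · rw [mem_fixSp] at hu ⊢
        show h (g u) = u
        rw [hu, hv, hQ.sf.symm u, perp_image (hg.iso hQ) y hu, mul_zero, zero_smul, add_zero]
      · rw [mem_fixSp]
        show h (g y) = y
        have e : f (g y) (g y + y) = Q (g y + y) := by
          rw [hQ.add, hg y, map_add, hQ.sf.alt, CharTwo.add_self_eq_zero]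
        rw [hv, e, inv_mul_cancel₀ hy, one_smul, ← add_assoc, vadd_self F (g y), zero_add]
      · rw [mem_fixSp]
        intro e
        exact hy (by rw [e, vadd_self F y, QuadraticMap.map_zero])
      · have h' := left h (h * g) hR hP
        rwa [← mul_assoc, rad_inv hQ.sf hh (by simp), one_mul] at h'
    · push Not at hall
      have hfxu : ∀ y, f y (g y + y) = 0 := fun y => by
        have h1 := hall y
        rw [hQ.add, hg y, CharTwo.add_self_eq_zero, zero_add, hQ.sf.symm] at h1
        rw [map_add, h1, hQ.sf.alt, add_zero]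
      have hex : ∃ y, f x (g y + y) ≠ 0 := by
        by_contra hno
        push Not at hno
        refine hx (eq_of_add_eq_zero' F (hQ.sf.nd _ fun v => ?_))
        obtain ⟨y, rfl⟩ := g.surjective v
        have h1 := (hg.iso hQ) x y
        have h2 := hno y
        rw [map_add, CharTwo.add_eq_zero] at h2
        rw [map_add, LinearMap.add_apply, h1, ← h2, CharTwo.add_self_eq_zero]
      obtain ⟨y, hy⟩ := hex
      set u := g x + x with hu
      have hu0 : u ≠ 0 := fun e => hx (eq_of_add_eq_zero' F e)
      set w := (f x (g y + y))⁻¹ • (g y + y) with hw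
      have hQu : Q u = 0 := hall x
      have hQw : Q w = 0 := by rw [hw, QuadraticMap.map_smul, hall, smul_zero]
      have hwu : f w u = 0 := by
        have h1 := hall (x + y)
        rw [LinearEquiv.map_add, add_add_add_comm, hQ.add, hall, hall, zero_add, zero_add] at h1
        rw [hw, map_smul, LinearMap.smul_apply, hu, hQ.sf.symm (g y + y), h1, smul_zero]
      obtain ⟨h, hh⟩ := exists_isRad hQ.sf u hwu (Q w)
      have hR : IsSiegel f Q h := ⟨u, w, hu0, hQu, hwu, hh⟩
      refine ⟨h, (hR.oiso hQ).mul hg, SetLike.lt_iff_le_and_exists.2 ⟨fun v hv => ?_, x, ?_, ?_⟩,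
        fun hP => ?_⟩
      · rw [mem_fixSp] at hv ⊢
        show h (g v) = v
        have e1 : f v u = 0 := by rw [hu, hQ.sf.symm]; exact perp_image (hg.iso hQ) x hv
        have e2 : f v w = 0 := by
          rw [hw, map_smul, hQ.sf.symm v, perp_image (hg.iso hQ) y hv, smul_zero]
        rw [hv, hh v]
        simp [rad, e1, e2]
      · rw [mem_fixSp]
        show h (g x) = x
        have e : g x = x + u := by
          rw [hu, add_comm (g x) x, ← add_assoc, vadd_self F x, zero_add]
        have e1 : f x u = 0 := hfxu x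
        have e2 : f x w = 1 := by rw [hw, map_smul, smul_eq_mul, inv_mul_cancel₀ hy]
        rw [e, hh, rad, hQw]
        simp [e1, e2, hQ.sf.symm u w, hwu, hQ.sf.alt, add_assoc, vadd_self F u]
      · rw [mem_fixSp]; exact hx
      · have hS' : h ∈ S := Subgroup.subset_closure hR
        rcases hP with hP | hP
        · exact Or.inl ((Subgroup.mul_mem_cancel_left _ hS').1 hP)
        · rw [mul_assoc] at hP
          exact Or.inr ((Subgroup.mul_mem_cancel_left _ hS').1 hP)
  have hfix1 : fixSp (1 : V ≃ₗ[F] V) = ⊤ := Submodule.ext fun x => by simp [mem_fixSp]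
  have hodd : ¬ Even (Module.finrank F (fixSp r0)) := by
    have h := refl_flip hQ (g := 1) (fun x => rfl) hR0
    rw [mul_one, hfix1, finrank_top] at h
    exact fun e => h.1 e hd
  have heven : ∀ s ∈ S, Even (Module.finrank F (fixSp s)) := fun s hs => by
    have h := siegelGroup_parity hQ hs 1 (fun x => rfl)
    rw [mul_one, hfix1, finrank_top] at h
    exact h.2 hd
  by_cases hr : r0 ∈ L
  · refine Or.inl fun g => ⟨hL g, fun hg => ?_⟩
    rcases hgen g hg with h | h
    · exact hSL h
    · exact (Subgroup.mul_mem_cancel_right _ hr).1 (hSL h)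
  · refine Or.inr fun g => ?_
    rw [even_fix_iff g hd]
    refine ⟨fun hg => ⟨hL g hg, ?_⟩, fun ⟨hg, he⟩ => ?_⟩
    · rcases hgen g (hL g hg) with h | h
      · exact heven g h
      · exact absurd ((Subgroup.mul_mem_cancel_left _ hg).1 (hSL h)) hr
    · rcases hgen g hg with h | h
      · exact hSL h
      · have h' := siegelGroup_parity hQ h r0 (hR0.oiso hQ)
        rw [mul_assoc, hr02, mul_one] at h'
        exact absurd (h'.1 he) hodd

end Cfsg.Agent.SpTrans63
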