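import Cfsg.Agent.SpTrans63.Quadric
import Cfsg.Agent.SpTrans63.Orth

/-!
Irreducible groups containing a large transvection-free part of the radical of a point stabiliser
in a symplectic group in characteristic two (helper63).
-/

set_option autoImplicit false
set_option linter.unusedSectionVars false

namespace Cfsg.Agent.SpTrans63

variable {F V : Type*} [Field F] [CharP F 2] [AddCommGroup V] [Module F V]
variable {f : LinearMap.BilinForm F V} [FiniteDimensional F V]

/-- The three cases for an irreducible group with a full point. -/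
theorem main_cases [Finite F] (hf : SympForm f) (hdim : 3 < Module.finrank F V)
    (hd : Even (Module.finrank F V)) (L : Subgroup (V ≃ₗ[F] V)) (hL : ∀ g ∈ L, Iso f g)
    (hirr : ∀ W : Submodule F V, (∀ g ∈ L, ∀ w ∈ W, g w ∈ W) → W = ⊥ ∨ W = ⊤)
    {a : V} (ha : a ≠ 0) (hfull : Full f L a) :
    (∀ g, Iso f g → g ∈ L) ∨
    (∃ Q : QuadraticForm F V, (∀ u v, QuadraticMap.polar Q u v = f u v) ∧
      ((∀ g, g ∈ L ↔ OIso Q g) ∨ ∀ g, g ∈ L ↔ OIso Q g ∧
        Even (Module.finrank F (LinearMap.range (g.toLinearMap - LinearMap.id))))) ∨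
    ((∀ k : F, k = 0 ∨ k = 1) ∧ Module.finrank F V = 4 ∧ ∀ b, b ≠ 0 → ∃ g ∈ L, g a = b) := by
  classical
  set P : V → Prop := fun b => ∃ g ∈ L, ∃ l : F, l ≠ 0 ∧ b = l • g a with hPdef
  have hspans : ∀ z, z ≠ 0 → ∃ b, P b ∧ f b z ≠ 0 := by
    intro z hz
    by_contra hno
    push Not at hno
    let W : Submodule F V :=
    { carrier := {x | ∀ b, P b → f b x = 0}
      add_mem' := fun {x y} hx hy b hb => by rw [map_add, hx b hb, hy b hb, add_zero]
      zero_mem' := fun b _ => map_zero _
      smul_mem' := fun c x hx b hb => by rw [map_smul, hx b hb, smul_zero] }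
    have hinv : ∀ g ∈ L, ∀ w ∈ W, g w ∈ W := by
      intro g hg w hw b ⟨h, hh, l, hl, hb⟩
      have h1 : P (g.symm b) := ⟨g⁻¹ * h, mul_mem (inv_mem hg) hh, l, hl, by
        rw [hb, map_smul]; rfl⟩
      have h2 := hw _ h1
      rwa [← hL g hg, LinearEquiv.apply_symm_apply] at h2
    rcases hirr W hinv with h | h
    · have h1 : z ∈ W := fun b hb => hno b hb
      rw [h] at h1; exact hz (by simpa using h1)
    · refine ha (hf.nd a fun w => ?_)
      have h1 : w ∈ W := h ▸ Submodule.mem_top
      exact h1 a ⟨1, L.one_mem, 1, one_ne_zero, by simp⟩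
  have hP : Orbit f L P :=
  { iso := hL
    ne := fun v ⟨g, _, l, hl, e⟩ => by
      rw [e]; exact smul_ne_zero hl (by simpa using ha)
    smul := fun v l hl ⟨g, hg, k, hk, e⟩ =>
      ⟨g, hg, l * k, mul_ne_zero hl hk, by rw [e, smul_smul]⟩
    map := fun h hh v ⟨g, hg, k, hk, e⟩ =>
      ⟨h * g, mul_mem hh hg, k, hk, by rw [e, map_smul]; rfl⟩
    full := fun v ⟨g, hg, k, hk, e⟩ => by
      rw [e]; exact (hfull.conj hf hg (hL g hg)).smul hk
    trans := fun u v ⟨g, hg, k, hk, eu⟩ ⟨h, hh, l, hl, ev⟩ =>
      ⟨h * g⁻¹, mul_mem hh (inv_mem hg), l / k, div_ne_zero hl hk, by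
        rw [eu, ev, map_smul, smul_smul, div_mul_cancel₀ _ hk]
        congr 1
        show h a = h (g.symm (g a))
        rw [LinearEquiv.symm_apply_apply]⟩
    spans := hspans }
  have hPa : P a := ⟨1, L.one_mem, 1, one_ne_zero, by simp⟩
  by_cases h2 : TwoPerLine f P
  · obtain ⟨Q, hpol, hzero⟩ := exists_quadric hf hP h2 hPa
    have hQS : QuadSpace f Q :=
    { sf := hf
      polar := hpol
      sing := fun z hz => by
        obtain ⟨p, hp, hpz⟩ := hspans z hz
        exact ⟨p, ((hzero p).1 hp).1, ((hzero p).1 hp).2, hpz⟩ }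
    refine Or.inr (Or.inl ⟨Q, hpol, orth_cases hQS (by omega) hd L
      (fun g hg p => quadric_invariant hf hP hpol hzero hg p) ?_⟩)
    rintro g ⟨p, w, hp0, hp, hw, hg⟩
    obtain ⟨g', hg', hg''⟩ := siegel_mem hf hP hpol hzero hp0 hp hw
    rwa [hg.eq hg'']
  · simp only [TwoPerLine, not_forall, not_or] at h2
    obtain ⟨b, c, x, y, hb, hc, hbc, hd', hx, hy⟩ := h2
    have hall := hP.all_of_three hf (by omega) hb hc hbc hx hy hd'
    by_cases hbig : 4 < Module.finrank F V
    · exact Or.inl fun g hg => mem_of_transvections hf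
        (radIn_transvection_large hf hbig fun v hv => hP.full v (hall v hv)) hg
    by_cases hF : ∃ k : F, k ≠ 0 ∧ k ≠ 1
    · exact Or.inl fun g hg => mem_of_transvections hf
        (radIn_transvection_of_three_lt hf hdim hF hP hall) hg
    push Not at hF
    refine Or.inr (Or.inr ⟨fun k => or_iff_not_imp_left.2 (hF k), by omega, fun v hv => ?_⟩)
    obtain ⟨g, hg, l, hl, rfl⟩ := hall v hv
    exact ⟨g, hg, by rw [hF l hl, one_smul]⟩

/-- The normal 2-subgroup of the stabiliser of a vector consists of radical elements. -/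
theorem radical_of_normal_two [Finite F] (hf : SympForm f) (hdim : 3 < Module.finrank F V)
    {a : V} (ha : a ≠ 0) (U : Subgroup (V ≃ₗ[F] V)) (hU2 : IsPGroup 2 U)
    (hUfix : ∀ u ∈ U, Iso f u ∧ u a = a)
    (hUnorm : ∀ h, Iso f h → h a = a → ∀ u ∈ U, h * u * h⁻¹ ∈ U) {u : V ≃ₗ[F] V} (hu : u ∈ U) :
    ∃ w c, f w a = 0 ∧ IsRad f u a w c := by
  classical
  set S : Submodule F V := F ∙ a with hS
  have hSu : ∀ g : U, S.map ((g : V ≃ₗ[F] V) : V →ₗ[F] V) = S := fun g => by
    rw [hS, Submodule.map_span, Set.image_singleton]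
    simp [(hUfix g g.2).2]
  let φ : U →* Equiv.Perm (V ⧸ S) :=
  { toFun := fun g => (Submodule.Quotient.equiv S S (g : V ≃ₗ[F] V) (hSu g)).toEquiv
    map_one' := Equiv.ext fun x => by
      induction x using Submodule.Quotient.induction_on with
      | _ v => rfl
    map_mul' := fun g h => Equiv.ext fun x => by
      induction x using Submodule.Quotient.induction_on with
      | _ v => rfl }
  letI : MulAction U (V ⧸ S) := MulAction.compHom _ φ
  haveI : Finite V := Module.finite_of_finite F
  haveI : Fact (Nat.Prime 2) := ⟨Nat.prime_two⟩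
  haveI : Finite (V ⧸ S) := Finite.of_surjective _ (Submodule.Quotient.mk_surjective S)
  have hd : 2 ∣ Nat.card (V ⧸ S) := by
    rw [Module.natCard_eq_pow_finrank (K := F)]
    have hq : 2 ∣ Nat.card F := by
      haveI := Fintype.ofFinite F
      obtain ⟨k, hp, hk⟩ := FiniteField.card F 2
      rw [Nat.card_eq_fintype_card, hk]
      exact dvd_pow_self 2 k.ne_zero
    refine hq.trans (dvd_pow_self _ ?_)
    have h1 := S.finrank_quotient_add_finrank
    have h2 : Module.finrank F S = 1 := by rw [hS, finrank_span_singleton ha]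
    omega
  have h0 : (0 : V ⧸ S) ∈ MulAction.fixedPoints U (V ⧸ S) := fun g => by
    show (Submodule.Quotient.equiv S S (g : V ≃ₗ[F] V) (hSu g)) 0 = 0
    exact map_zero _
  obtain ⟨yq, hyq, hy0⟩ := hU2.exists_fixed_point_of_prime_dvd_card_of_fixed_point (V ⧸ S) hd h0
  obtain ⟨y, rfl⟩ := Submodule.Quotient.mk_surjective S yq
  have hyS : y ∉ S := fun h => hy0 (by rw [(Submodule.Quotient.mk_eq_zero S).2 h])
  -- vectors fixed by `U` modulo `a`
  let A : Submodule F V :=
  { carrier := {v | ∀ g ∈ U, g v + v ∈ S}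
    add_mem' := fun {v v'} h h' g hg => by
      rw [map_add, add_add_add_comm]; exact S.add_mem (h g hg) (h' g hg)
    zero_mem' := fun g _ => by simp
    smul_mem' := fun c v h g hg => by
      rw [map_smul, ← smul_add]; exact S.smul_mem c (h g hg) }
  have hyA : y ∈ A := fun g hg => by
    have h : Submodule.Quotient.mk (p := S) (g y) = Submodule.Quotient.mk y := hyq ⟨g, hg⟩
    have h' := (Submodule.Quotient.eq S).1 h
    have e : g y + y = g y - y := by
      rw [eq_sub_iff_add_eq, add_assoc, vadd_self F y, add_zero]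
    rwa [e]
  have hAinv : ∀ h, Iso f h → h a = a → ∀ v ∈ A, h v ∈ A := fun h hh hha v hv g hg => by
    have hm := hv (h⁻¹ * g * h) (by
      simpa using hUnorm h⁻¹ hh.inv (by
        show h.symm a = a
        conv_lhs => rw [← hha]
        rw [LinearEquiv.symm_apply_apply]) g hg)
    obtain ⟨t, ht⟩ := Submodule.mem_span_singleton.1 hm
    refine Submodule.mem_span_singleton.2 ⟨t, ?_⟩
    have := congrArg h ht
    rw [map_smul, map_add, hha] at this
    rw [this]
    show h (h.symm (g (h v))) + h v = _
    rw [LinearEquiv.apply_symm_apply]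
  have htr : ∀ z v, f z a = 0 → v ∈ A → f v z ≠ 0 → z ∈ A := by
    intro z v hza hv hvz
    obtain ⟨h, hh⟩ := exists_isRad hf z (w := (0 : V)) (by simp) (1 : F)
    have hha : h a = a := by rw [hh a]; simp [rad, hf.symm a z, hza]
    have h1 := A.add_mem hv (hAinv h (hh.iso hf (by simp)) hha v hv)
    have e : v + h v = f v z • z := by
      rw [hh v, rad]
      simp only [map_zero, zero_smul, smul_zero, add_zero, one_mul, ← add_assoc, vadd_self F v,
        zero_add]
    rw [e] at h1
    exact (Submodule.smul_mem_iff _ hvz).1 h1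
  obtain ⟨z, hz, hzy⟩ := hf.exists_pair S hyS
  have hza : f z a = 0 := hz a (Submodule.mem_span_singleton_self a)
  have hseed : ∃ z0, f z0 a = 0 ∧ z0 ∉ S ∧ z0 ∈ A := by
    by_cases hzS : z ∈ S
    · obtain ⟨w, hwa, hwy, hw⟩ := SympForm.exists_perp (f := f) a y S (by
        rw [hS, finrank_span_singleton ha]; omega)
      exact ⟨z + w, by simp [hza, hwa], fun h => hw (by simpa using S.sub_mem h hzS),
        htr _ y (by simp [hza, hwa]) hyA (by simp [hf.symm y z, hzy, hf.symm y w, hwy])⟩
    · exact ⟨z, hza, hzS, htr z y hza hyA (by simp [hf.symm y z, hzy])⟩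
  obtain ⟨z0, h0a, h0S, h0A⟩ := hseed
  have hperpA : ∀ w, f w a = 0 → w ∈ A := by
    intro w hw
    by_cases h : f z0 w = 0
    · obtain ⟨z1, hz1, hz10⟩ := hf.exists_pair S h0S
      have h1a : f z1 a = 0 := hz1 a (Submodule.mem_span_singleton_self a)
      have h01 : f z0 z1 = 1 := by rw [hf.symm, hz10]
      have m1 := htr z1 z0 h1a h0A (by rw [h01]; exact one_ne_zero)
      have m2 := htr (w + z1) z0 (by simp [hw, h1a]) h0A (by simp [h, h01])
      simpa using A.sub_mem m2 m1
    · exact htr w z0 hw h0A h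
  obtain ⟨hui, hua⟩ := hUfix u hu
  obtain ⟨a', -, ha'⟩ := hf.exists_pair (⊥ : Submodule F V) (w := a) (by simpa using ha)
  set w1 := u a' + a' with hw1
  refine ⟨w1, f a' w1, ?_, fun v => ?_⟩
  · have h := hui a' a
    rw [hua] at h
    rw [hw1, map_add, LinearMap.add_apply, h, CharTwo.add_self_eq_zero]
  · set v0 := v + f v a • a' with hv0
    have hv0a : f v0 a = 0 := by simp [hv0, ha', CharTwo.add_self_eq_zero]
    obtain ⟨t, ht⟩ := Submodule.mem_span_singleton.1 (hperpA v0 hv0a u hu)
    have huv0 : u v0 = v0 + t • a := by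
      rw [ht, add_comm (u v0), ← add_assoc, vadd_self F v0, zero_add]
    have hua' : u a' = a' + w1 := by
      rw [hw1, add_comm (u a'), ← add_assoc, vadd_self F a', zero_add]
    have htv : t = f v w1 + f v a * f a' w1 := by
      have h := hui v0 a'
      rw [huv0, hua'] at h
      have hw1a : f a w1 = 0 := by
        have h := hui a a'
        rw [hua] at h
        rw [hw1, map_add, h, CharTwo.add_self_eq_zero]
      simp only [map_add, map_smul, LinearMap.add_apply, LinearMap.smul_apply, smul_eq_mul,
        hw1a, hf.symm a a', ha', add_zero, mul_one] at h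
      have h2 : (2 : F) = 0 := CharTwo.two_eq_zero
      have hv0w : f v0 w1 = f v w1 + f v a * f a' w1 := by simp [hv0]
      linear_combination h + hv0w - (f v0 w1) * h2
    have hv : v = v0 + f v a • a' := by
      rw [hv0, add_assoc, smul_self_add, add_zero]
    calc u v = u v0 + f v a • u a' := by
          conv_lhs => rw [hv]
          rw [map_add, map_smul]
      _ = v + (f v w1 + f v a * f a' w1) • a + f v a • w1 := by
          rw [huv0, hua', htv, smul_add, hv0]
          have e := smul_self_add (f v a) a'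
          linear_combination (norm := module) e
      _ = rad f a w1 (f a' w1) v := by rw [rad]; module

/-- A transvection-free subgroup of the radical of full order meets every coset of the
transvection group. -/
theorem full_of_card [Finite F] (hf : SympForm f) {a : V} (ha : a ≠ 0)
    (X L : Subgroup (V ≃ₗ[F] V)) (hXL : X ≤ L)
    (hrad : ∀ x ∈ X, ∃ w c, f w a = 0 ∧ IsRad f x a w c)
    (hcard : Nat.card X = Nat.card F ^ (Module.finrank F V - 2))
    (hdim : 2 ≤ Module.finrank F V)
    (hntv : ∀ x ∈ X, Module.finrank F (LinearMap.range (x.toLinearMap - LinearMap.id)) ≠ 1) :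
    Full f L a := by
  classical
  haveI : Finite V := Module.finite_of_finite F
  choose w c hwa hr using fun x : X => hrad x x.2
  set W : Submodule F V := LinearMap.ker (f.flip a) with hW
  let ν : X × F → W := fun p => ⟨w p.1 + p.2 • a, by simp [hW, hwa, hf.alt]⟩
  have hinj : Function.Injective ν := by
    rintro ⟨x, t⟩ ⟨x', t'⟩ h
    have h' : w x + t • a = w x' + t' • a := congrArg Subtype.val h
    have hm := (hr x).mul hf (hr x') (hwa x) (hwa x')
    have hsum : w x + w x' = 0 + (t + t') • a := by
      have e1 := vadd_self F (w x')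
      have e2 := smul_self_add t a
      linear_combination (norm := module) h' + e1 - e2
    set d := c x + c x' + f (w x) (w x') with hd
    have hv : ∀ v, ((x : V ≃ₗ[F] V) * x') v = v + (d * f v a) • a := fun v => by
      rw [hm v, hsum, rad_shift]; simp [rad]
    have hd0 : d = 0 := by
      by_contra hne
      apply hntv _ (mul_mem x.2 x'.2)
      have hrange : LinearMap.range
          (((x : V ≃ₗ[F] V) * x').toLinearMap - LinearMap.id) = F ∙ a := by
        refine le_antisymm ?_ ?_
        · rintro _ ⟨v, rfl⟩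
          show ((x : V ≃ₗ[F] V) * x') v - v ∈ _
          rw [hv, add_sub_cancel_left]
          exact Submodule.smul_mem _ _ (Submodule.mem_span_singleton_self a)
        · rw [Submodule.span_singleton_le_iff_mem]
          obtain ⟨z, -, hz⟩ := hf.exists_pair (⊥ : Submodule F V) (w := a) (by simpa using ha)
          refine ⟨d⁻¹ • z, ?_⟩
          show ((x : V ≃ₗ[F] V) * x') (d⁻¹ • z) - d⁻¹ • z = a
          rw [hv, add_sub_cancel_left]
          simp [hz, hne]
      rw [hrange, finrank_span_singleton ha]
    have hxx : (x : V ≃ₗ[F] V) * x' = 1 := LinearEquiv.ext fun v => by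
      rw [hv, hd0, zero_mul, zero_smul, add_zero]; rfl
    have hinv : ((x : V ≃ₗ[F] V)) * x = 1 := rad_inv hf (hr x) (hwa x)
    have hxx' : x = x' := Subtype.ext (mul_left_cancel (hinv.trans hxx.symm))
    subst hxx'
    rw [add_right_inj] at h'
    exact Prod.ext rfl (smul_left_injective F ha h')
  have hWc : Module.finrank F W + 1 = Module.finrank F V := by
    have h := (f.flip a).finrank_range_add_finrank_ker
    have h1 : Module.finrank F (LinearMap.range (f.flip a)) = 1 := by
      have hle := Submodule.finrank_le (LinearMap.range (f.flip a))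
      rw [Module.finrank_self] at hle
      have hne : LinearMap.range (f.flip a) ≠ ⊥ := fun h' => by
        rw [LinearMap.range_eq_bot] at h'
        exact ha (hf.nd a fun v => by rw [hf.symm]; exact LinearMap.congr_fun h' v)
      have := Submodule.one_le_finrank_iff.2 hne
      omega
    rw [hW]; omega
  have hcards : Nat.card (X × F) = Nat.card W := by
    rw [Nat.card_prod, hcard, Module.natCard_eq_pow_finrank (K := F) (V := W), ← pow_succ]
    congr 1
    omega
  have hsurj := hinj.bijective_of_nat_card_le hcards.ge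
  intro v hv
  obtain ⟨⟨x, t⟩, hxt⟩ := hsurj.2 ⟨v, by simpa [hW] using hv⟩
  have hxt' : w x + t • a = v := congrArg Subtype.val hxt
  exact ⟨c x, x, hXL x.2, fun u => by rw [← hxt', rad_shift]; exact hr x u⟩

/-- An element normalising a full transvection-free radical part fixes the point. -/
theorem fixed_of_normalizes (hf : SympForm f) (hdim : 3 < Module.finrank F V) {a : V}
    (ha : a ≠ 0) (X : Subgroup (V ≃ₗ[F] V)) (hfull : Full f X a) {g : V ≃ₗ[F] V}
    (hgn : ∀ x ∈ X, g⁻¹ * x * g ∈ X) (hXa : ∀ x ∈ X, x a = a) :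
    ∃ t : F, g a = t • a := by
  have hfix : ∀ x ∈ X, x (g a) = g a := fun x hx => by
    have h := hXa _ (hgn x hx)
    have h' : g.symm (x (g a)) = a := h
    rw [LinearEquiv.symm_apply_eq] at h'
    exact h'
  have hrel : ∀ w, f w a = 0 → ∀ z, f z a = 0 → f (g a) a • z ∈ (F ∙ a) := by
    intro _ _ z hz
    obtain ⟨c, x, hx, hr⟩ := hfull z hz
    have h := hfix x hx
    rw [hr, rad, add_assoc, add_assoc, add_eq_left] at h
    refine Submodule.mem_span_singleton.2 ⟨f (g a) z + c * f (g a) a, ?_⟩
    apply eq_of_add_eq_zero' F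
    rw [add_smul]
    linear_combination (norm := module) h
  have hga : f (g a) a = 0 := by
    by_contra hne
    obtain ⟨z, hza, -, hz⟩ := SympForm.exists_perp (f := f) a a (F ∙ a) (by
      rw [finrank_span_singleton ha]; omega)
    exact hz ((Submodule.smul_mem_iff _ hne).1 (hrel z hza z hza))
  suffices g a ∈ (F ∙ a) by
    obtain ⟨t, ht⟩ := Submodule.mem_span_singleton.1 this
    exact ⟨t, ht.symm⟩
  by_contra hm
  obtain ⟨z, hz, hz1⟩ := hf.exists_pair _ hm
  have hza : f z a = 0 := hz a (Submodule.mem_span_singleton_self a)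
  obtain ⟨c, x, hx, hr⟩ := hfull z hza
  have h := hfix x hx
  rw [hr, rad, hga, hf.symm (g a) z, hz1] at h
  simp at h
  exact ha h

end Cfsg.Agent.SpTrans63
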