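import Mathlib
import Cfsg.Agent.ClMax99.SymIndex

/-!
Subgroups of the symmetric group of degree six of order divisible by sixty (helper63).
-/

set_option autoImplicit false
set_option maxRecDepth 100000

namespace Cfsg.Agent.SpTrans63

open Equiv

theorem stabilizer_equiv_perm (x : Fin 6) :
    Nonempty (↥(MulAction.stabilizer (Perm (Fin 6)) x) ≃* Perm (Fin 5)) := by
  classical
  let φ : Perm {y : Fin 6 // y ≠ x} →* Perm (Fin 6) := Perm.ofSubtype
  have hφ : Function.Injective φ := Perm.ofSubtype_injective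
  have hle : φ.range ≤ MulAction.stabilizer (Perm (Fin 6)) x := by
    rintro _ ⟨g, rfl⟩
    rw [MulAction.mem_stabilizer_iff, Perm.smul_def]
    exact Perm.ofSubtype_apply_of_not_mem g (fun h => h rfl)
  have hc : Fintype.card {y : Fin 6 // y ≠ x} = 5 := by
    rw [Fintype.card_subtype_compl, Fintype.card_subtype_eq, Fintype.card_fin]
  have heq : φ.range = MulAction.stabilizer (Perm (Fin 6)) x := by
    refine Subgroup.eq_of_le_of_card_ge hle ?_
    have h1 : Nat.card φ.range = 120 := by
      rw [← Nat.card_congr (MonoidHom.ofInjective hφ).toEquiv, Nat.card_perm,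
        Nat.card_eq_fintype_card, hc]
      rfl
    have h2 := (MulAction.stabilizer (Perm (Fin 6)) x).card_mul_index
    rw [MulAction.index_stabilizer_of_transitive, Nat.card_perm, Nat.card_fin] at h2
    rw [show Nat.factorial 6 = 720 from rfl] at h2
    push_cast at h2 ⊢
    omega
  exact ⟨((MulEquiv.subgroupCongr heq).symm.trans (MonoidHom.ofInjective hφ).symm).trans
    ((Fintype.equivFinOfCardEq hc).permCongrHom)⟩

theorem no_order_fifteen : ∀ g : Perm (Fin 6), g ^ 15 = 1 → g ^ 3 = 1 ∨ g ^ 5 = 1 := by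
  decide +kernel

theorem no_subgroup_fifteen (K : Subgroup (Perm (Fin 6))) : Nat.card K ≠ 15 := by
  intro hK
  haveI : Fact (Nat.Prime 5) := ⟨by norm_num⟩
  haveI : Fact (Nat.Prime 3) := ⟨by norm_num⟩
  obtain ⟨b, hb⟩ := exists_prime_orderOf_dvd_card' (G := K) 5 (by rw [hK]; norm_num)
  obtain ⟨c, hc⟩ := exists_prime_orderOf_dvd_card' (G := K) 3 (by rw [hK]; norm_num)
  have hidx : (Subgroup.zpowers b).index = 3 := by
    have h := (Subgroup.zpowers b).card_mul_index
    rw [Nat.card_zpowers, hb, hK] at h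
    omega
  have hnorm : (Subgroup.zpowers b).Normal :=
    Subgroup.normal_of_index_eq_minFac_card (by rw [hidx, hK]; norm_num)
  have hm : c * b * c⁻¹ ∈ Subgroup.zpowers b :=
    hnorm.conj_mem b (Subgroup.mem_zpowers b) c
  rw [mem_zpowers_iff_mem_range_orderOf, Finset.mem_image] at hm
  obtain ⟨j, hj, hjb⟩ := hm
  rw [Finset.mem_range, hb] at hj
  have hiter : ∀ k : ℕ, c ^ k * b * (c ^ k)⁻¹ = b ^ (j ^ k) := by
    intro k
    induction k with
    | zero => simp
    | succ k ih =>
      calc c ^ (k + 1) * b * (c ^ (k + 1))⁻¹ = c * (c ^ k * b * (c ^ k)⁻¹) * c⁻¹ := by group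
        _ = (c * b * c⁻¹) ^ (j ^ k) := by rw [ih, conj_pow]
        _ = b ^ (j ^ (k + 1)) := by rw [← hjb, ← pow_mul, pow_succ']
  have h3 := hiter 3
  rw [show c ^ 3 = 1 from hc ▸ pow_orderOf_eq_one c] at h3
  have h4 : b ^ 1 = b ^ (j ^ 3) := by simpa using h3
  rw [pow_inj_mod, hb] at h4
  have hj1 : j = 1 := by interval_cases j <;> omega
  rw [hj1, pow_one] at hjb
  have hcomm : Commute b c := by
    show b * c = c * b
    conv_lhs => rw [hjb]
    group
  have ho : orderOf (b * c) = 15 := by
    rw [hcomm.orderOf_mul_eq_mul_orderOf_of_coprime (by rw [hb, hc]; norm_num), hb, hc]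
  have ho' : orderOf ((b * c : K) : Perm (Fin 6)) = 15 := by
    rwa [orderOf_submonoid]
  rcases no_order_fifteen _ (ho' ▸ pow_orderOf_eq_one _) with h | h
  · have := orderOf_dvd_of_pow_eq_one h
    rw [ho'] at this; norm_num at this
  · have := orderOf_dvd_of_pow_eq_one h
    rw [ho'] at this; norm_num at this

/-- A subgroup of order a multiple of sixty with no self-normalising abelian Sylow 2-subgroup of
order four is everything, the alternating group, or a copy of the group of degree five. -/
theorem six_cases (L : Subgroup (Perm (Fin 6))) (h60 : 60 ∣ Nat.card L)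
    (hX : Nat.card L = 60 → ∃ X : Subgroup L, Nat.card X = 4 ∧
      (∀ g : L, g ∈ Subgroup.normalizer (X : Set L) → g ∈ X) ∧
      ∀ x ∈ X, ∀ y ∈ X, x * y = y * x) :
    L = ⊤ ∨ Nonempty (↥L ≃* ↥(alternatingGroup (Fin 6))) ∨ Nonempty (↥L ≃* Perm (Fin 5)) := by
  classical
  by_cases hT : L = ⊤
  · exact Or.inl hT
  by_cases hA : L = alternatingGroup (Fin 6)
  · exact Or.inr (Or.inl ⟨MulEquiv.subgroupCongr hA⟩)
  refine Or.inr (Or.inr ?_)
  have hidx := ClMax99.le_index (Ω := Fin 6) (by simp) hT hA
  have hmul := L.card_mul_index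
  rw [Nat.card_perm, Nat.card_fin] at hmul
  rw [show Nat.factorial 6 = 720 from rfl] at hmul
  obtain ⟨k, hk⟩ := h60
  rw [Fintype.card_fin] at hidx
  have hk0 : k ≠ 0 := fun h => by rw [hk, h] at hmul; simp at hmul
  have hk2 : k * L.index = 12 := by
    rw [hk] at hmul; nlinarith
  have hk3 : k ≤ 2 := by
    by_contra h
    have : 3 * 6 ≤ k * L.index := Nat.mul_le_mul (by omega) hidx
    omega
  interval_cases k
  · exact absurd rfl hk0
  · -- order sixty
    exfalso
    haveI : Fact (Nat.Prime 2) := ⟨by norm_num⟩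
    have h60' : Nat.card L = 60 := by rw [hk]
    obtain ⟨X, hX4, hXn, hXa⟩ := hX h60'
    have hX2 : IsPGroup 2 X := IsPGroup.of_card (n := 2) (by rw [hX4]; norm_num)
    obtain ⟨P, hP⟩ := hX2.exists_le_sylow
    have hPc : Nat.card (P : Subgroup L) = 4 := by
      rw [P.card_eq_multiplicity, h60']
      decide +kernel
    have hPX : (P : Subgroup L) = X :=
      (Subgroup.eq_of_le_of_card_ge hP (by rw [hPc, hX4])).symm
    have hnc : Subgroup.normalizer ((P : Subgroup L) : Set L) ≤
        Subgroup.centralizer ((P : Subgroup L) : Set L) := by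
      intro g hg
      rw [hPX] at hg ⊢
      have hgX := hXn g hg
      exact fun x hx => hXa x hx g hgX
    have hcompl := MonoidHom.ker_transferSylow_isComplement' P hnc
    have hK := hcompl.card_mul
    rw [hPc, h60'] at hK
    set K := (MonoidHom.transferSylow P hnc).ker with hKdef
    apply no_subgroup_fifteen (K.map L.subtype)
    rw [Subgroup.card_map_of_injective L.subtype_injective]
    omega
  · obtain ⟨ψ, x, hψ⟩ := ClMax99.exists_mulAut_stabilizer L (by simp) (by simp; omega)
    obtain ⟨e⟩ := stabilizer_equiv_perm x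
    have heq : L.map ψ.toMonoidHom = MulAction.stabilizer (Perm (Fin 6)) x := by
      ext g
      rw [Subgroup.mem_map_equiv, hψ, MulEquiv.apply_symm_apply, MulAction.mem_stabilizer_iff]
      rfl
    exact ⟨((L.equivMapOfInjective ψ.toMonoidHom ψ.injective).trans
      (MulEquiv.subgroupCongr heq)).trans e⟩

end Cfsg.Agent.SpTrans63
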