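import Cfsg.Agent.SpTrans63.Main
import Cfsg.Agent.SpTrans63.Six

/-!
The groups transitive on the fifteen non-zero vectors of a four-space over two elements (helper63).
-/

set_option autoImplicit false
set_option linter.unusedSectionVars false

namespace Cfsg.Agent.SpTrans63

variable {F V : Type*} [Field F] [CharP F 2] [AddCommGroup V] [Module F V]
variable {f : LinearMap.BilinForm F V} [FiniteDimensional F V]

theorem card_field_two [Fintype F] (h : ∀ k : F, k = 0 ∨ k = 1) : Fintype.card F = 2 := by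
  classical
  refine le_antisymm ?_ Fintype.one_lt_card
  rw [← Finset.card_univ]
  refine (Finset.card_le_card (t := ({0, 1} : Finset F)) fun k _ => ?_).trans Finset.card_le_two
  rcases h k with rfl | rfl <;> simp

theorem two_cases [Finite F] (hf : SympForm f) (hd4 : Module.finrank F V = 4)
    (hF2 : ∀ k : F, k = 0 ∨ k = 1) {a : V} (ha : a ≠ 0)
    (X L : Subgroup (V ≃ₗ[F] V)) (hXL : X ≤ L) (hfull : Full f X a)
    (hrad : ∀ x ∈ X, ∃ w c, f w a = 0 ∧ IsRad f x a w c) (hXa : ∀ x ∈ X, x a = a)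
    (hX4 : Nat.card X = 4) (htrans : ∀ b, b ≠ 0 → ∃ g ∈ L, g a = b)
    (ι : ↥L →* Equiv.Perm (Fin 6)) (hι : Function.Injective ι) :
    ι.range = ⊤ ∨ Nonempty (↥L ≃* ↥(alternatingGroup (Fin 6))) ∨
      Nonempty (↥L ≃* Equiv.Perm (Fin 5)) := by
  classical
  haveI := Fintype.ofFinite F
  haveI : Finite V := Module.finite_of_finite F
  haveI : Finite ↥L := Finite.of_injective ι hι
  have horb : MulAction.orbit ↥L a = ({0} : Set V)ᶜ := by
    ext v
    simp only [Set.mem_compl_iff, Set.mem_singleton_iff]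
    constructor
    · rintro ⟨g, rfl⟩ h
      have h' : (g : V ≃ₗ[F] V) a = 0 := h
      exact ha ((LinearEquiv.map_eq_zero_iff _).1 h')
    · intro hv
      obtain ⟨g, hg, h⟩ := htrans v hv
      exact ⟨⟨g, hg⟩, h⟩
  set St := MulAction.stabilizer ↥L a with hSt
  have hcardL : Nat.card ↥L = 15 * Nat.card St := by
    have h0 := St.card_mul_index
    rw [hSt, MulAction.index_stabilizer, horb, Set.ncard_compl, Set.ncard_singleton,
      Module.natCard_eq_pow_finrank (K := F) (V := V), hd4, Nat.card_eq_fintype_card (α := F),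
      card_field_two hF2] at h0
    rw [hSt, ← h0, mul_comm]
    norm_num
  set XL := X.subgroupOf L with hXL'
  have hXSt : XL ≤ St := fun x hx => hXa _ (Subgroup.mem_subgroupOf.1 hx)
  have hXL4 : Nat.card XL = 4 := by
    rw [hXL', Nat.card_congr (Subgroup.subgroupOfEquivOfLe hXL).toEquiv, hX4]
  let eι := MonoidHom.ofInjective hι
  have hcard : Nat.card ι.range = Nat.card ↥L := (Nat.card_congr eι.toEquiv).symm
  have h60 : 60 ∣ Nat.card ι.range := by
    rw [hcard, hcardL]
    exact (Nat.mul_dvd_mul_left 15 (hXL4 ▸ Subgroup.card_dvd_of_le hXSt) :)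
  refine (six_cases ι.range h60 fun h => ?_).imp_right fun h =>
    h.imp (fun ⟨i⟩ => ⟨eι.trans i⟩) fun ⟨i⟩ => ⟨eι.trans i⟩
  have hSX : XL = St := by
    refine Subgroup.eq_of_le_of_card_ge hXSt ?_
    rw [hcard, hcardL] at h
    omega
  refine ⟨XL.map eι.toMonoidHom, ?_, ?_, ?_⟩
  · rw [Subgroup.card_map_of_injective (f := eι.toMonoidHom) eι.injective, hXL4]
  · intro g hg
    obtain ⟨g, rfl⟩ := eι.surjective g
    refine ⟨g, ?_, rfl⟩
    have hg' : ∀ x ∈ XL, g⁻¹ * x * g ∈ XL := fun x hx => by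
      have h1 := (Subgroup.mem_normalizer_iff''.1 hg (eι x)).1 ⟨x, hx, rfl⟩
      obtain ⟨y, hy, hyx⟩ := h1
      have e : y = g⁻¹ * x * g := eι.injective (by rw [map_mul, map_mul, map_inv]; exact hyx)
      rwa [← e]
    obtain ⟨t, ht⟩ := fixed_of_normalizes hf (by omega) ha X hfull (g := (g : V ≃ₗ[F] V))
      (fun x hx => Subgroup.mem_subgroupOf.1 (hg' ⟨x, hXL hx⟩ (Subgroup.mem_subgroupOf.2 hx))) hXa
    rcases hF2 t with rfl | rfl
    · rw [zero_smul] at ht
      exact absurd ((LinearEquiv.map_eq_zero_iff _).1 ht) ha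
    · rw [one_smul] at ht
      rw [hSX]
      exact ht
  · rintro _ ⟨x, hx, rfl⟩ _ ⟨y, hy, rfl⟩
    rw [← map_mul, ← map_mul]
    congr 1
    apply Subtype.ext
    obtain ⟨w, c, hw, hr⟩ := hrad _ (Subgroup.mem_subgroupOf.1 hx)
    obtain ⟨w', c', hw', hr'⟩ := hrad _ (Subgroup.mem_subgroupOf.1 hy)
    have h1 := hr.mul hf hr' hw hw'
    have h2 := hr'.mul hf hr hw' hw
    rw [add_comm w' w, add_comm c' c, hf.symm w' w] at h2
    exact h1.eq h2

end Cfsg.Agent.SpTrans63
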