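import Mathlib

/-!
Radical elements `v ↦ v + f(v,w) a + f(v,a) w + c f(v,a) a` of a symplectic group in characteristic
two, their products, conjugates and commutators, and generation by transvections (helper63).
-/

set_option autoImplicit false
set_option linter.unusedSectionVars false

namespace Cfsg.Agent.SpTrans63

variable {F V : Type*} [Field F] [CharP F 2] [AddCommGroup V] [Module F V]

theorem vadd_self (F : Type*) {V : Type*} [Field F] [CharP F 2] [AddCommGroup V] [Module F V]
    (v : V) : v + v = 0 := by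
  rw [← two_smul F v, CharTwo.two_eq_zero, zero_smul]

theorem eq_of_add_eq_zero' (F : Type*) {V : Type*} [Field F] [CharP F 2] [AddCommGroup V]
    [Module F V] {u v : V} (h : u + v = 0) : u = v := by
  have h' : v = -v := eq_neg_of_add_eq_zero_left (vadd_self F v)
  rw [eq_neg_of_add_eq_zero_left h, ← h']

theorem smul_self_add (c : F) (v : V) : c • v + c • v = 0 := vadd_self F _

/-- A non-degenerate alternating form. -/
structure SympForm (f : LinearMap.BilinForm F V) : Prop where
  alt : ∀ v, f v v = 0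
  nd : ∀ v, (∀ w, f v w = 0) → v = 0

variable {f : LinearMap.BilinForm F V}

theorem SympForm.symm (hf : SympForm f) (u v : V) : f u v = f v u := by
  have h := hf.alt (u + v)
  simp only [map_add, LinearMap.add_apply, hf.alt, zero_add, add_zero] at h
  exact (CharTwo.add_eq_zero.1 h).symm

theorem SympForm.refl (hf : SympForm f) : f.IsRefl := fun u v h => by rw [hf.symm]; exact h

theorem SympForm.nondeg (hf : SympForm f) : f.Nondegenerate :=
  ⟨hf.nd, fun v h => hf.nd v fun w => by rw [hf.symm]; exact h w⟩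

/-- For `w` outside a subspace there is a vector orthogonal to the subspace pairing to one with
`w`. -/
theorem SympForm.exists_pair [FiniteDimensional F V] (hf : SympForm f) (S : Submodule F V) {w : V}
    (hw : w ∉ S) : ∃ z, (∀ x ∈ S, f z x = 0) ∧ f z w = 1 := by
  obtain ⟨φ, h1, h2⟩ := Submodule.exists_dual_map_eq_bot_of_notMem hw inferInstance
  have hφ : ∀ x ∈ S, φ x = 0 := fun x hx => by
    have : φ x ∈ S.map φ := Submodule.mem_map_of_mem hx
    rw [h2] at this
    simpa using this
  refine ⟨(LinearMap.BilinForm.toDual f hf.nondeg).symm ((φ w)⁻¹ • φ), fun x hx => ?_, ?_⟩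
  · rw [LinearMap.BilinForm.apply_toDual_symm_apply]
    simp [hφ x hx]
  · rw [LinearMap.BilinForm.apply_toDual_symm_apply]
    simp [h1]

theorem notMem_span_one {a b : V} : b ∉ (F ∙ a) ↔ ∀ t : F, b ≠ t • a := by
  rw [Submodule.mem_span_singleton]
  exact ⟨fun h t ht => h ⟨t, ht.symm⟩, fun h ⟨t, ht⟩ => h t ht.symm⟩

/-- In dimension above `dim S + 2` some vector outside `S` is orthogonal to two given vectors. -/
theorem SympForm.exists_perp [FiniteDimensional F V] (a b : V) (S : Submodule F V)
    (hS : Module.finrank F S + 2 < Module.finrank F V) :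
    ∃ w, f w a = 0 ∧ f w b = 0 ∧ w ∉ S := by
  let T : V →ₗ[F] F × F := (f.flip a).prod (f.flip b)
  by_contra h
  push_neg at h
  have hle : LinearMap.ker T ≤ S := fun w hw => by
    rw [LinearMap.mem_ker] at hw
    exact h w (congrArg Prod.fst hw) (congrArg Prod.snd hw)
  have h1 := T.finrank_range_add_finrank_ker
  have h2 : Module.finrank F (LinearMap.range T) ≤ 2 := by
    refine (Submodule.finrank_le _).trans ?_
    simp
  have h3 := Submodule.finrank_mono hle
  omega

/-- The radical element function. -/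
def rad (f : LinearMap.BilinForm F V) (a w : V) (c : F) (v : V) : V :=
  v + f v w • a + f v a • w + (c * f v a) • a

/-- Isometries of `f`. -/
def Iso (f : LinearMap.BilinForm F V) (g : V ≃ₗ[F] V) : Prop := ∀ u v, f (g u) (g v) = f u v

theorem Iso.one : Iso f (1 : V ≃ₗ[F] V) := fun _ _ => rfl

theorem Iso.mul {g h : V ≃ₗ[F] V} (hg : Iso f g) (hh : Iso f h) : Iso f (g * h) :=
  fun u v => (hg (h u) (h v)).trans (hh u v)

theorem Iso.inv {g : V ≃ₗ[F] V} (hg : Iso f g) : Iso f g⁻¹ := fun u v => by
  have h := hg (g.symm u) (g.symm v)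
  simp only [LinearEquiv.apply_symm_apply] at h
  exact h.symm

/-- `g` is the radical element with parameters `a, w, c`. -/
def IsRad (f : LinearMap.BilinForm F V) (g : V ≃ₗ[F] V) (a w : V) (c : F) : Prop :=
  ∀ v, g v = rad f a w c v

theorem exists_isRad (hf : SympForm f) (a : V) {w : V} (hw : f w a = 0) (c : F) :
    ∃ g : V ≃ₗ[F] V, IsRad f g a w c := by
  have haw : f a w = 0 := by rw [hf.symm, hw]
  let l : V →ₗ[F] V := LinearMap.id + (f.flip w).smulRight a + (f.flip a).smulRight w +
    (c • f.flip a).smulRight a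
  have hl : ∀ v, l v = rad f a w c v := fun v => by
    simp [l, rad, LinearMap.flip_apply, smul_eq_mul]
  have hinv : Function.Involutive l := fun v => by
    simp only [hl]
    simp only [rad, map_add, map_smul, LinearMap.add_apply, LinearMap.smul_apply, smul_eq_mul,
      hf.alt, hw, haw, mul_zero, add_zero]
    have e1 := smul_self_add (f v w) a
    have e2 := smul_self_add (f v a) w
    have e3 := smul_self_add (c * f v a) a
    linear_combination (norm := module) e1 + e2 + e3
  exact ⟨LinearEquiv.ofInvolutive l hinv, fun v => hl v⟩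

theorem IsRad.iso (hf : SympForm f) {g : V ≃ₗ[F] V} {a w : V} {c : F} (h : IsRad f g a w c)
    (hw : f w a = 0) : Iso f g := by
  intro u v
  have haw : f a w = 0 := by rw [hf.symm, hw]
  rw [h u, h v]
  simp only [rad, map_add, map_smul, LinearMap.add_apply, LinearMap.smul_apply, smul_eq_mul,
    hf.alt, hw, haw, mul_zero, add_zero, hf.symm a v, hf.symm w v]
  have e1 := CharTwo.add_self_eq_zero (f u w * f v a)
  have e2 := CharTwo.add_self_eq_zero (f u a * f v w)
  have e3 := CharTwo.add_self_eq_zero (c * f u a * f v a)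
  linear_combination e1 + e2 + e3

theorem IsRad.mul (hf : SympForm f) {g g' : V ≃ₗ[F] V} {a w w' : V} {c c' : F}
    (h : IsRad f g a w c) (h' : IsRad f g' a w' c') (hw : f w a = 0) (hw' : f w' a = 0) :
    IsRad f (g * g') a (w + w') (c + c' + f w w') := by
  intro v
  have haw : f a w = 0 := by rw [hf.symm, hw]
  show g (g' v) = _
  rw [h, h']
  simp only [rad, map_add, map_smul, LinearMap.add_apply, LinearMap.smul_apply, smul_eq_mul,
    hf.alt, hw, haw, hw', mul_zero, add_zero, hf.symm w' w]
  module

theorem IsRad.conj (hf : SympForm f) {g h : V ≃ₗ[F] V} {a w : V} {c : F} (hg : IsRad f g a w c)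
    (hh : Iso f h) : IsRad f (h * g * h⁻¹) (h a) (h w) c := by
  intro v
  show h (g (h.symm v)) = _
  have e : ∀ x, f (h.symm v) x = f v (h x) := fun x => by
    rw [← hh (h.symm v) x, LinearEquiv.apply_symm_apply]
  rw [hg]
  simp [rad, map_add, map_smul, e]

theorem IsRad.eq {g g' : V ≃ₗ[F] V} {a w : V} {c : F} (h : IsRad f g a w c)
    (h' : IsRad f g' a w c) : g = g' := LinearEquiv.ext fun v => (h v).trans (h' v).symm

/-- Some element of `L` is the radical element with parameters `a, w, c`. -/
def RadIn (f : LinearMap.BilinForm F V) (L : Subgroup (V ≃ₗ[F] V)) (a w : V) (c : F) : Prop :=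
  ∃ g ∈ L, IsRad f g a w c

/-- `L` covers the quotient of the radical at `a` by the transvections. -/
def Full (f : LinearMap.BilinForm F V) (L : Subgroup (V ≃ₗ[F] V)) (a : V) : Prop :=
  ∀ w, f w a = 0 → ∃ c, RadIn f L a w c

variable {L : Subgroup (V ≃ₗ[F] V)}

theorem RadIn.mul (hf : SympForm f) {a w w' : V} {c c' : F} (h : RadIn f L a w c)
    (h' : RadIn f L a w' c') (hw : f w a = 0) (hw' : f w' a = 0) :
    RadIn f L a (w + w') (c + c' + f w w') := by
  obtain ⟨g, hg, hg2⟩ := h
  obtain ⟨g', hg', hg'2⟩ := h'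
  exact ⟨g * g', L.mul_mem hg hg', hg2.mul hf hg'2 hw hw'⟩

theorem RadIn.conj (hf : SympForm f) {a w : V} {c : F} (h : RadIn f L a w c) {g : V ≃ₗ[F] V}
    (hg : g ∈ L) (hgi : Iso f g) : RadIn f L (g a) (g w) c := by
  obtain ⟨x, hx, hx2⟩ := h
  exact ⟨g * x * g⁻¹, L.mul_mem (L.mul_mem hg hx) (L.inv_mem hg), hx2.conj hf hgi⟩

theorem rad_smul (a w : V) (c l : F) (v : V) :
    rad f (l • a) w c v = rad f a (l • w) (l * l * c) v := by
  simp only [rad, map_smul, smul_eq_mul]
  module

theorem RadIn.smul_iff {a w : V} {c l : F} :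
    RadIn f L (l • a) w c ↔ RadIn f L a (l • w) (l * l * c) := by
  simp only [RadIn, IsRad, rad_smul]

theorem rad_shift (a w : V) (c t : F) (v : V) :
    rad f a (w + t • a) c v = rad f a w c v := by
  simp only [rad, map_add, map_smul, smul_eq_mul]
  have e1 := smul_self_add (t * f v a) a
  linear_combination (norm := module) e1

theorem rad_zero (a v : V) : rad f a 0 0 v = v := by simp [rad]

theorem RadIn.line (a : V) (t : F) : RadIn f L a (t • a) 0 := by
  refine ⟨1, L.one_mem, fun v => ?_⟩
  have h := rad_shift (f := f) a 0 0 t v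
  rw [zero_add, rad_zero] at h
  rw [h]; rfl

theorem Full.smul {a : V} {l : F} (hl : l ≠ 0) (h : Full f L a) : Full f L (l • a) := by
  intro w hw
  have hw' : f (l • w) a = 0 := by
    simp only [map_smul, smul_eq_mul, LinearMap.smul_apply] at hw ⊢
    rcases mul_eq_zero.1 hw with h0 | h0
    · exact absurd h0 hl
    · rw [h0, mul_zero]
  obtain ⟨c, hc⟩ := h (l • w) hw'
  refine ⟨c / (l * l), RadIn.smul_iff.2 ?_⟩
  rwa [mul_div_cancel₀ _ (mul_ne_zero hl hl)]

theorem Full.conj (hf : SympForm f) {a : V} (h : Full f L a) {g : V ≃ₗ[F] V} (hg : g ∈ L)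
    (hgi : Iso f g) : Full f L (g a) := by
  intro w hw
  have hw' : f (g.symm w) a = 0 := by
    rw [← hgi (g.symm w) a, LinearEquiv.apply_symm_apply]; exact hw
  obtain ⟨c, hc⟩ := h _ hw'
  refine ⟨c, ?_⟩
  have := hc.conj hf hg hgi
  rwa [LinearEquiv.apply_symm_apply] at this

/-- The commutator of a radical element at `a` with one at a perpendicular point `b`. -/
theorem RadIn.comm (hf : SympForm f) {a b w z : V} {c d : F} (hba : f b a = 0) (hza : f z a = 0)
    (hzb : f z b = 0) (hwa : f w a = 0) (hx : RadIn f L a w c) (hy : RadIn f L b z d) :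
    RadIn f L a ((f w z + d * f w b) • b + f w b • z) (d * f w b * f w b) := by
  have hab : f a b = 0 := by rw [hf.symm, hba]
  have haz : f a z = 0 := by rw [hf.symm, hza]
  obtain ⟨y, hy, hy2⟩ := hy
  have hyi : Iso f y := hy2.iso hf hzb
  have hya : y a = a := by rw [hy2 a]; simp [rad, hab, haz]
  have h2 := hx.conj hf hy hyi
  rw [hya] at h2
  have hywa : f (y w) a = 0 := by
    have := hyi w a
    rw [hya] at this
    rw [this, hwa]
  have h3 := hx.mul hf h2 hwa hywa
  have e1 : w + y w = (f w z + d * f w b) • b + f w b • z := by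
    rw [hy2 w, rad]
    have e := vadd_self F w
    linear_combination (norm := module) e
  have e2 : c + c + f w (y w) = d * f w b * f w b := by
    rw [hy2 w, rad, CharTwo.add_self_eq_zero, zero_add]
    simp only [map_add, map_smul, hf.alt, smul_eq_mul, zero_add]
    have e := CharTwo.add_self_eq_zero (f w z * f w b)
    linear_combination e
  rwa [e1, e2] at h3

/-- The fixed space of `g`. -/
def fixSp (g : V ≃ₗ[F] V) : Submodule F V := LinearMap.ker (g.toLinearMap - LinearMap.id)

theorem mem_fixSp {g : V ≃ₗ[F] V} {x : V} : x ∈ fixSp g ↔ g x = x := by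
  simp [fixSp, LinearMap.mem_ker, sub_eq_zero]

/-- Descent on fixed spaces. -/
theorem descent [FiniteDimensional F V] (P : (V ≃ₗ[F] V) → Prop) (I : (V ≃ₗ[F] V) → Prop)
    (h1 : P 1)
    (step : ∀ g x, I g → g x ≠ x → ∃ h, I (h * g) ∧ fixSp g < fixSp (h * g) ∧ (P (h * g) → P g)) :
    ∀ g, I g → P g := by
  suffices ∀ k g, I g → Module.finrank F V - Module.finrank F (fixSp g) = k → P g from
    fun g hg => this _ g hg rfl
  intro k
  induction k using Nat.strong_induction_on with
  | _ k ih =>
    intro g hg hk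
    by_cases h : ∀ x, g x = x
    · rwa [show g = 1 from LinearEquiv.ext fun x => h x]
    · push_neg at h
      obtain ⟨x, hx⟩ := h
      obtain ⟨h, hi, hlt, hP⟩ := step g x hg hx
      refine hP (ih _ ?_ _ hi rfl)
      have := Submodule.finrank_lt_finrank_of_lt hlt
      have := Submodule.finrank_le (fixSp (h * g))
      omega

/-- A group containing all transvections contains every isometry. -/
theorem mem_of_transvections [FiniteDimensional F V] (hf : SympForm f)
    (hT : ∀ a c, RadIn f L a 0 c) {g : V ≃ₗ[F] V} (hg : Iso f g) : g ∈ L := by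
  have trv : ∀ {h : V ≃ₗ[F] V} {z : V} {c : F}, IsRad f h z 0 c → ∀ v,
      h v = v + (c * f v z) • z := fun hh v => by rw [hh v]; simp [rad]
  have one : ∀ (g : V ≃ₗ[F] V) (x : V), Iso f g → f (g x) x ≠ 0 →
      ∃ h ∈ L, Iso f (h * g) ∧ fixSp g < fixSp (h * g) := by
    intro g x hg hx
    obtain ⟨h, hhL, hh⟩ := hT (g x + x) (f (g x) x)⁻¹
    have hfix : ∀ y, g y = y → f y (g x + x) = 0 := fun y hy => by
      have h1 := hg y x
      rw [hy] at h1
      rw [map_add, h1, CharTwo.add_self_eq_zero]
    refine ⟨h, hhL, (hh.iso hf (by simp)).mul hg, ?_⟩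
    refine SetLike.lt_iff_le_and_exists.2 ⟨fun y hy => ?_, x, ?_, ?_⟩
    · rw [mem_fixSp] at hy ⊢
      show h (g y) = y
      rw [hy, trv hh, hfix y hy, mul_zero, zero_smul, add_zero]
    · rw [mem_fixSp]
      show h (g x) = x
      rw [trv hh, map_add, hf.alt, zero_add, inv_mul_cancel₀ hx, one_smul, ← add_assoc,
        vadd_self F (g x), zero_add]
    · rw [mem_fixSp]
      intro he
      exact hx (by rw [he, hf.alt])
  refine descent (fun g => g ∈ L) (Iso f) L.one_mem (fun g x hg hx => ?_) g hg
  have fin : ∀ h : V ≃ₗ[F] V, h ∈ L → h * g ∈ L → g ∈ L := fun h hh hm =>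
    (Subgroup.mul_mem_cancel_left _ hh).1 hm
  by_cases hall : ∃ x, f (g x) x ≠ 0
  · obtain ⟨x, hx⟩ := hall
    obtain ⟨h, hh, hi, hlt⟩ := one g x hg hx
    exact ⟨h, hi, hlt, fin h hh⟩
  push_neg at hall
  -- a transvection along the image of `g - 1` makes some vector non-perpendicular to its image
  have hex : ∃ y, f x (g y + y) ≠ 0 := by
    by_contra hno
    push_neg at hno
    refine hx (eq_of_add_eq_zero' F (hf.nd _ fun v => ?_))
    obtain ⟨y, rfl⟩ := g.surjective v
    have h1 := hg x y
    have h2 := hno y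
    rw [map_add, CharTwo.add_eq_zero] at h2
    rw [map_add, LinearMap.add_apply, h1, ← h2, CharTwo.add_self_eq_zero]
  obtain ⟨y, hy⟩ := hex
  obtain ⟨t, htL, ht⟩ := hT (g y + y) 1
  have hsum : ∀ u, f (g u) u = 0 := hall
  have hpol : f (g x) y + f (g y) x = 0 := by
    have := hsum (x + y)
    simp only [map_add, LinearMap.add_apply, hsum, zero_add, add_zero] at this
    linear_combination this
  have hgxz : f (g x) (g y + y) = f x (g y + y) := by
    rw [map_add, map_add, hg x y]
    have e : f x (g y) = f (g x) y := by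
      rw [hf.symm]; exact (CharTwo.add_eq_zero.1 hpol).symm
    rw [e, add_comm]
  have hmove : f ((t * g) x) x ≠ 0 := by
    show f (t (g x)) x ≠ 0
    rw [trv ht, hgxz]
    simp only [map_add, map_smul, LinearMap.add_apply, LinearMap.smul_apply, hsum, smul_eq_mul,
      one_mul, zero_add]
    rw [hf.symm (g y) x, hf.symm y x, ← map_add]
    exact mul_ne_zero hy hy
  obtain ⟨h, hh, hi, hlt⟩ := one (t * g) x ((ht.iso hf (by simp)).mul hg) hmove
  refine ⟨h * t, ?_, lt_of_le_of_lt (b := fixSp (t * g)) ?_ ?_, fin (h * t) (L.mul_mem hh htL)⟩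
  · rwa [mul_assoc]
  · intro u hu
    rw [mem_fixSp] at hu ⊢
    show t (g u) = u
    have h1 := hg u y
    rw [hu] at h1
    rw [hu, trv ht, map_add, h1, CharTwo.add_self_eq_zero, mul_zero, zero_smul, add_zero]
  · rwa [mul_assoc]

end Cfsg.Agent.SpTrans63
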