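import Cfsg.Agent.SpTrans63.Transitive

/-!
An orbit with at most two points on each hyperbolic line is a quadric (helper63).
-/

set_option autoImplicit false
set_option linter.unusedSectionVars false

namespace Cfsg.Agent.SpTrans63

variable {F V : Type*} [Field F] [CharP F 2] [AddCommGroup V] [Module F V]
variable {f : LinearMap.BilinForm F V} {L : Subgroup (V ≃ₗ[F] V)} {P : V → Prop}

/-- Hua-type identity for a pair of additive maps. -/
theorem additive_inv_square {α β : F → F} (ha : ∀ x y, α (x + y) = α x + α y)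
    (hb : ∀ x y, β (x + y) = β x + β y) (hab : ∀ y, y ≠ 0 → β y = y * α y⁻¹) (x : F) :
    α (x * x) = α 1 * x := by
  have ha0 : α 0 = 0 := by
    have h := ha 0 0
    rw [add_zero] at h
    rw [h, CharTwo.add_self_eq_zero]
  by_cases hx : x = 0
  · simp [hx, ha0]
  by_cases hx1 : x = 1
  · simp [hx1]
  obtain ⟨y, rfl⟩ : ∃ y, x = y⁻¹ := ⟨x⁻¹, (inv_inv x).symm⟩
  have hy : y ≠ 0 := fun h => hx (by simp [h])
  have hy1 : y ≠ 1 := fun h => hx1 (by simp [h])
  have hy1' : y + 1 ≠ 0 := fun h => hy1 (CharTwo.add_eq_zero.1 h)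
  have hyy : y * y + y ≠ 0 := by
    rw [show y * y + y = y * (y + 1) by ring]; exact mul_ne_zero hy hy1'
  have e : (y * y + y)⁻¹ = y⁻¹ + (y + 1)⁻¹ := by
    have h2 : (2 : F) = 0 := CharTwo.two_eq_zero
    field_simp
    linear_combination (-y) * h2
  have h1 := hab _ hyy
  rw [e, ha, hb, hab _ (mul_ne_zero hy hy), hab _ hy] at h1
  have h3 := hab _ hy1'
  rw [hb, hab _ hy, hab 1 one_ne_zero, inv_one, one_mul] at h3
  have h4 : y * y * α (y * y)⁻¹ = y * α 1 := by
    have h2 : (2 : F) = 0 := CharTwo.two_eq_zero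
    linear_combination h1 - y * h3 + (y * y * α y⁻¹) * h2
  rw [← mul_inv, eq_mul_inv_iff_mul_eq₀ hy]
  apply mul_left_cancel₀ hy
  linear_combination h4

variable [FiniteDimensional F V]

/-- The orbit has at most two points on each hyperbolic line. -/
def TwoPerLine (f : LinearMap.BilinForm F V) (P : V → Prop) : Prop :=
  ∀ b c, ∀ x y : F, P b → P c → f b c ≠ 0 → P (x • b + y • c) → x = 0 ∨ y = 0

/-- The coordinate function of the orbit off `a^⊥`. -/
theorem exists_phi (hf : SympForm f) (hP : Orbit f L P) (h2 : TwoPerLine f P) {a v : V}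
    (ha : P a) (hv : P v) (hva : f v a = 1) :
    ∃ φ : V → F,
      (∀ w, f w a = 0 → f w v = 0 → ∀ t, P (v + w + t • a) ↔ t = φ w) ∧
      (∀ w w', f w a = 0 → f w v = 0 → f w' a = 0 → f w' v = 0 →
        φ (w + w') = φ w + φ w' + f w w') ∧
      (∀ w, f w a = 0 → f w v = 0 → w ≠ 0 → (φ w = 0 ↔ P w)) := by
  classical
  have hav : f a v = 1 := by rw [hf.symm, hva]
  have himg : ∀ w, f w a = 0 → f w v = 0 → ∀ c : F, rad f a w c v = v + w + c • a := by
    intro w _ hwv c
    simp [rad, hf.symm v w, hwv, hva]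
  have hex : ∀ w, ∃ t : F, f w a = 0 → f w v = 0 → P (v + w + t • a) := by
    intro w
    by_cases h : f w a = 0 ∧ f w v = 0
    · obtain ⟨c, hc⟩ := hP.full a ha w h.1
      exact ⟨c, fun _ _ => himg w h.1 h.2 c ▸ hP.move hv hc⟩
    · exact ⟨0, fun h1 h2 => absurd ⟨h1, h2⟩ h⟩
  choose φ hφ using hex
  have huniq : ∀ w, f w a = 0 → f w v = 0 → ∀ t, P (v + w + t • a) → t = φ w := by
    intro w hwa hwv t ht
    have e : v + w + t • a = (t + φ w) • a + (1 : F) • (v + w + φ w • a) := by
      have e2 := smul_self_add (φ w) a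
      linear_combination (norm := module) -e2
    rw [e] at ht
    have hne : f a (v + w + φ w • a) ≠ 0 := by
      simp [hav, hf.symm a w, hwa, hf.alt]
    rcases h2 a _ _ _ ha (hφ w hwa hwv) hne ht with h | h
    · exact CharTwo.add_eq_zero.1 h
    · exact absurd h one_ne_zero
  refine ⟨φ, fun w hwa hwv t => ⟨huniq w hwa hwv t, fun h => h ▸ hφ w hwa hwv⟩, ?_, ?_⟩
  · intro w w' hwa hwv hwa' hwv'
    obtain ⟨c, hc⟩ := hP.full a ha w' hwa'
    have hcφ : c = φ w' := huniq w' hwa' hwv' c (himg w' hwa' hwv' c ▸ hP.move hv hc)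
    have h := hP.move (hφ w hwa hwv) hc
    have e : rad f a w' c (v + w + φ w • a) = v + (w + w') + (φ w + φ w' + f w w') • a := by
      simp [rad, hf.symm v w', hwv', hva, hwa, hf.symm a w', hwa', hf.alt, hcφ]
      module
    rw [e] at h
    exact (huniq _ (by simp [hwa, hwa']) (by simp [hwv, hwv']) _ h).symm
  · intro w hwa hwv hw
    have hvw : f v w = 0 := by rw [hf.symm, hwv]
    refine ⟨fun h => ?_, fun h => ?_⟩
    · have hp := hφ w hwa hwv
      rw [h, zero_smul, add_zero] at hp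
      have e : v + w + (1 : F) • v = w := by
        have e2 := vadd_self F v
        linear_combination (norm := module) e2
      have := hP.line hf hv hp (by simp [hf.alt, hvw]) 1 (by rwa [e])
      rwa [e] at this
    · have h1 : v + (1 : F) • w ≠ 0 := fun h0 => by
        have := congrArg (fun x => f x a) h0
        simp [hva, hwa] at this
      have := hP.line hf h hv hwv 1 h1
      exact (huniq w hwa hwv 0 (by simpa using this)).symm

/-- The coordinate function is a quadratic form on `⟨a, v⟩^⊥`. -/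
theorem phi_smul [Finite F] (hf : SympForm f) (hP : Orbit f L P) (h2 : TwoPerLine f P) {a v : V}
    (ha : P a) (hv : P v) (hva : f v a = 1) {φ : V → F}
    (h1 : ∀ w, f w a = 0 → f w v = 0 → ∀ t, P (v + w + t • a) ↔ t = φ w)
    (hadd : ∀ w w', f w a = 0 → f w v = 0 → f w' a = 0 → f w' v = 0 →
      φ (w + w') = φ w + φ w' + f w w')
    (hz : ∀ w, f w a = 0 → f w v = 0 → w ≠ 0 → (φ w = 0 ↔ P w))
    {w : V} (hwa : f w a = 0) (hwv : f w v = 0) (s : F) : φ (s • w) = s * s * φ w := by
  have hs : ∀ s : F, f (s • w) a = 0 ∧ f (s • w) v = 0 := fun s => by simp [hwa, hwv]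
  have hφ0 : φ 0 = 0 := by
    have h := hadd 0 0 (by simp) (by simp) (by simp) (by simp)
    simpa [CharTwo.add_self_eq_zero] using h
  by_cases hw : w = 0
  · simp [hw, hφ0]
  by_cases hPw : P w
  · rw [(hz w hwa hwv hw).2 hPw, mul_zero]
    by_cases hs0 : s = 0
    · simp [hs0, hφ0]
    · exact (hz _ (hs s).1 (hs s).2 (smul_ne_zero hs0 hw)).2 (hP.smul w s hs0 hPw)
  have hnP : ∀ s : F, s ≠ 0 → φ (s • w) ≠ 0 := fun s hs0 h => hPw (by
    have := hP.smul _ _ (inv_ne_zero hs0) ((hz _ (hs s).1 (hs s).2 (smul_ne_zero hs0 hw)).1 h)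
    rwa [inv_smul_smul₀ hs0] at this)
  obtain ⟨ψ, h1', hadd', hz'⟩ := exists_phi hf hP h2 hv ha (by rw [hf.symm, hva])
  set A : F → F := fun s => φ (s • w) with hA
  set B : F → F := fun s => ψ (s • w) with hB
  have hAadd : ∀ x y, A (x + y) = A x + A y := fun x y => by
    simp only [hA, add_smul, hadd _ _ (hs x).1 (hs x).2 (hs y).1 (hs y).2]
    simp [hf.alt]
  have hBadd : ∀ x y, B (x + y) = B x + B y := fun x y => by
    simp only [hB, add_smul, hadd' _ _ (hs x).2 (hs x).1 (hs y).2 (hs y).1]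
    simp [hf.alt]
  have hnQ : ∀ s : F, s ≠ 0 → B s ≠ 0 := fun s hs0 h => hPw (by
    have := hP.smul _ _ (inv_ne_zero hs0)
      ((hz' _ (hs s).2 (hs s).1 (smul_ne_zero hs0 hw)).1 h)
    rwa [inv_smul_smul₀ hs0] at this)
  have inj : ∀ C : F → F, (∀ x y, C (x + y) = C x + C y) → (∀ s, s ≠ 0 → C s ≠ 0) →
      Function.Bijective C := fun C hC hC0 => by
    refine Finite.injective_iff_bijective.1 fun x y hxy => ?_
    by_contra hne
    exact hC0 (x + y) (fun h => hne (CharTwo.add_eq_zero.1 h))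
      (by rw [hC, hxy, CharTwo.add_self_eq_zero])
  have hA' := inj A hAadd hnP
  have hB' := inj B hBadd hnQ
  let α := (Equiv.ofBijective A hA').symm
  let β := (Equiv.ofBijective B hB').symm
  have hAα : ∀ x, A (α x) = x := fun x => (Equiv.ofBijective A hA').apply_symm_apply x
  have hBβ : ∀ x, B (β x) = x := fun x => (Equiv.ofBijective B hB').apply_symm_apply x
  have haA : ∀ x y, α (x + y) = α x + α y := fun x y =>
    hA'.1 (by rw [hAadd, hAα, hAα, hAα])
  have haB : ∀ x y, β (x + y) = β x + β y := fun x y =>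
    hB'.1 (by rw [hBadd, hBβ, hBβ, hBβ])
  have hA0 : A 0 = 0 := by simp [hA, hφ0]
  have hrel : ∀ s, s ≠ 0 → B (s / A s) = (A s)⁻¹ := fun s hs0 => by
    have hp : P (v + s • w + A s • a) := (h1 _ (hs s).1 (hs s).2 _).2 rfl
    have hp' := hP.smul _ _ (inv_ne_zero (hnP s hs0)) hp
    have hAs : A s ≠ 0 := hnP s hs0
    have e : (φ (s • w))⁻¹ • (v + s • w + A s • a) =
        a + (s / A s) • w + (A s)⁻¹ • v := by
      show (A s)⁻¹ • _ = _
      rw [smul_add, smul_add, smul_smul, smul_smul, inv_mul_cancel₀ hAs, one_smul,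
        div_eq_inv_mul]
      abel
    rw [e] at hp'
    exact ((h1' _ (hs _).2 (hs _).1 _).1 hp').symm
  have hαβ : ∀ y, y ≠ 0 → β y = y * α y⁻¹ := fun y hy => by
    have hα : α y⁻¹ ≠ 0 := fun h => inv_ne_zero hy (by rw [← hAα y⁻¹, h, hA0])
    have h := hrel _ hα
    rw [hAα, inv_inv, div_inv_eq_mul] at h
    rw [← hB'.1.eq_iff, hBβ, mul_comm, h]
  have hsq := additive_inv_square haA haB hαβ
  have hk : α 1 ≠ 0 := fun h => one_ne_zero (α := F) (by rw [← hAα 1, h, hA0])
  have hAs : ∀ s, A s = (s / α 1) * (s / α 1) := fun s => by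
    have h := congrArg A (hsq (s / α 1))
    rw [hAα, mul_div_cancel₀ _ hk] at h
    exact h.symm
  have h3 := hAs s
  have h4 := hAs 1
  simp only [hA, one_smul] at h3 h4
  rw [h3, h4]
  ring

/-- The orbit is the set of singular points of a quadratic form polarising to `f`. -/
theorem exists_quadric [Finite F] (hf : SympForm f) (hP : Orbit f L P) (h2 : TwoPerLine f P)
    {a : V} (ha : P a) :
    ∃ Q : QuadraticForm F V, (∀ u v, QuadraticMap.polar Q u v = f u v) ∧
      ∀ p, P p ↔ p ≠ 0 ∧ Q p = 0 := by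
  obtain ⟨v0, hv0, hv0a⟩ := hP.spans a (hP.ne a ha)
  obtain ⟨v, hv, hva⟩ : ∃ v, P v ∧ f v a = 1 :=
    ⟨(f v0 a)⁻¹ • v0, hP.smul _ _ (inv_ne_zero hv0a) hv0, by simp [hv0a]⟩
  have hav : f a v = 1 := by rw [hf.symm, hva]
  obtain ⟨φ, h1, hadd, hz⟩ := exists_phi hf hP h2 ha hv hva
  let π : V →ₗ[F] V := LinearMap.id + (f.flip v).smulRight a + (f.flip a).smulRight v
  have hπ : ∀ p, π p = p + f p v • a + f p a • v := fun p => by simp [π]
  have hπa : ∀ p, f (π p) a = 0 := fun p => by
    simp [hπ, hf.alt, hva, CharTwo.add_self_eq_zero]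
  have hπv : ∀ p, f (π p) v = 0 := fun p => by
    simp [hπ, hf.alt, hav, CharTwo.add_self_eq_zero]
  let q : V → F := fun p => f p v * f p a + φ (π p)
  have hsm : ∀ (s : F) p, q (s • p) = (s * s) • q p := fun s p => by
    simp only [q, map_smul, LinearMap.smul_apply, smul_eq_mul,
      phi_smul hf hP h2 ha hv hva h1 hadd hz (hπa p) (hπv p)]
    ring
  have hpol : ∀ p p', QuadraticMap.polar q p p' = f p p' := fun p p' => by
    simp only [QuadraticMap.polar, q, map_add, LinearMap.add_apply,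
      hadd _ _ (hπa p) (hπv p) (hπa p') (hπv p')]
    rw [hπ p, hπ p']
    simp only [map_smul, map_add, LinearMap.add_apply, LinearMap.smul_apply, smul_eq_mul,
      hf.alt, hav, hva, hf.symm a p', hf.symm v p', mul_one, mul_zero, zero_add, add_zero]
    have h2' : (2 : F) = 0 := CharTwo.two_eq_zero
    linear_combination (2 * (f p v * f p' a + f p' v * f p a)) * h2'
  let Q : QuadraticForm F V := QuadraticMap.ofPolar q hsm
    (fun x x' y => by simp [hpol]) (fun s x y => by simp [hpol])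
  refine ⟨Q, fun u u' => hpol u u', fun p => ?_⟩
  show P p ↔ p ≠ 0 ∧ q p = 0
  have hdec : p = π p + f p v • a + f p a • v := by
    rw [hπ]
    have e1 := smul_self_add (f p v) a
    have e2 := smul_self_add (f p a) v
    linear_combination (norm := module) -e1 - e2
  by_cases hy : f p a = 0
  · simp only [q, hy, mul_zero, zero_add]
    rw [hy, zero_smul, add_zero] at hdec
    by_cases hw : π p = 0
    · have hφ0 : φ 0 = 0 := by
        have h := hadd 0 0 (by simp) (by simp) (by simp) (by simp)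
        simpa [CharTwo.add_self_eq_zero] using h
      rw [hw, hφ0]
      rw [hw, zero_add] at hdec
      refine ⟨fun h => ⟨hP.ne p h, rfl⟩, fun ⟨h, _⟩ => ?_⟩
      rw [hdec]
      exact hP.smul _ _ (fun h0 => h (by rw [hdec, h0, zero_smul])) ha
    · rw [hz _ (hπa p) (hπv p) hw]
      have hperp : f a (π p) = 0 := by rw [hf.symm, hπa]
      refine ⟨fun h => ⟨hP.ne p h, ?_⟩, fun ⟨h0, h⟩ => ?_⟩
      · have e : p + f p v • a = π p := by rw [hπ, hy, zero_smul, add_zero]
        have := hP.line hf ha h (by rw [hf.symm, hy]) (f p v) (by rwa [e])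
        rwa [e] at this
      · have := hP.line hf ha h hperp (f p v) (by rwa [← hdec])
        rwa [← hdec] at this
  · have hp' : (f p a)⁻¹ • p = v + (f p a)⁻¹ • π p + ((f p a)⁻¹ * f p v) • a := by
      conv_lhs => arg 2; rw [hdec]
      rw [smul_add, smul_add, smul_smul, smul_smul, inv_mul_cancel₀ hy, one_smul]
      abel
    have hiff : P p ↔ P ((f p a)⁻¹ • p) := ⟨hP.smul _ _ (inv_ne_zero hy), fun h => by
      have := hP.smul _ _ hy h
      rwa [smul_inv_smul₀ hy] at this⟩
    rw [hiff, hp', h1 _ (by simp [hπa]) (by simp [hπv]),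
      phi_smul hf hP h2 ha hv hva h1 hadd hz (hπa p) (hπv p)]
    refine ⟨fun h => ⟨fun h0 => hy (by simp [h0]), ?_⟩, fun ⟨_, h⟩ => ?_⟩
    · have h' : φ (π p) = f p v * f p a := by
        field_simp at h
        linear_combination -h
      simp only [q, h', CharTwo.add_self_eq_zero]
    · have h' : φ (π p) = f p v * f p a := (CharTwo.add_eq_zero.1 h).symm
      rw [h']
      field_simp

/-- The group preserves the quadratic form. -/
theorem quadric_invariant (hf : SympForm f) (hP : Orbit f L P) {Q : QuadraticForm F V}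
    (hpol : ∀ u v, QuadraticMap.polar Q u v = f u v) (hzero : ∀ p, P p ↔ p ≠ 0 ∧ Q p = 0)
    {g : V ≃ₗ[F] V} (hg : g ∈ L) (p : V) : Q (g p) = Q p := by
  have hQadd : ∀ x y, Q (x + y) = Q x + Q y + f x y := fun x y => by
    rw [← hpol, QuadraticMap.polar]; ring
  let S : Submodule F V :=
  { carrier := {x | Q (g x) = Q x}
    add_mem' := fun {x y} hx hy => by
      simp only [Set.mem_setOf_eq] at *
      rw [map_add, hQadd, hQadd, hx, hy, hP.iso g hg]
    zero_mem' := by simp
    smul_mem' := fun c x hx => by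
      simp only [Set.mem_setOf_eq] at *
      rw [map_smul, QuadraticMap.map_smul, QuadraticMap.map_smul, hx] }
  suffices h : S = ⊤ by
    have : p ∈ S := h ▸ Submodule.mem_top
    exact this
  have hPS : ∀ x, P x → x ∈ S := fun x hx => by
    show Q (g x) = Q x
    rw [((hzero _).1 (hP.map g hg x hx)).2, ((hzero x).1 hx).2]
  by_contra hne
  obtain ⟨w, hw⟩ : ∃ w, w ∉ S := by
    by_contra h; push Not at h; exact hne (eq_top_iff.2 fun x _ => h x)
  obtain ⟨z, hz, hzw⟩ := hf.exists_pair S hw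
  have hz0 : z ≠ 0 := fun h => by simp [h] at hzw
  obtain ⟨b, hb, hbz⟩ := hP.spans z hz0
  exact hbz (by rw [hf.symm, hz b (hPS b hb)])

/-- Every radical element at a singular point is in the group. -/
theorem siegel_mem (hf : SympForm f) (hP : Orbit f L P) {Q : QuadraticForm F V}
    (hpol : ∀ u v, QuadraticMap.polar Q u v = f u v) (hzero : ∀ p, P p ↔ p ≠ 0 ∧ Q p = 0)
    {p w : V} (hp : p ≠ 0) (hQp : Q p = 0) (hw : f w p = 0) : RadIn f L p w (Q w) := by
  have hpP : P p := (hzero p).2 ⟨hp, hQp⟩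
  obtain ⟨c, g, hg, hg2⟩ := hP.full p hpP w hw
  obtain ⟨b, hb, hbp⟩ := hP.spans p hp
  suffices c = Q w from ⟨g, hg, this ▸ hg2⟩
  have h := quadric_invariant hf hP hpol hzero hg b
  have hQadd : ∀ x y, Q (x + y) = Q x + Q y + f x y := fun x y => by
    rw [← hpol, QuadraticMap.polar]; ring
  rw [hg2 b, rad] at h
  simp only [hQadd, QuadraticMap.map_smul, map_add, map_smul, LinearMap.add_apply,
    LinearMap.smul_apply, hQp, smul_eq_mul, hw, hf.symm p w, hf.alt, mul_zero, add_zero] at h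
  have h2' : (2 : F) = 0 := CharTwo.two_eq_zero
  have h5 : f b p * f b p * (c + Q w) = 0 := by
    linear_combination h - (f b w * f b p) * h2'
  exact CharTwo.add_eq_zero.1
    ((mul_eq_zero.1 h5).resolve_left (mul_ne_zero hbp hbp))

end Cfsg.Agent.SpTrans63
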