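import Cfsg.Agent.SpTrans63.Basic

/-!
An orbit covered by full radical elements with three points on a hyperbolic line is everything, and
then the group contains all transvections (helper63).
-/

set_option autoImplicit false
set_option linter.unusedSectionVars false

namespace Cfsg.Agent.SpTrans63

variable {F V : Type*} [Field F] [CharP F 2] [AddCommGroup V] [Module F V]
variable {f : LinearMap.BilinForm F V} {L : Subgroup (V ≃ₗ[F] V)}

/-- The multiples of an orbit of a full point. -/
structure Orbit (f : LinearMap.BilinForm F V) (L : Subgroup (V ≃ₗ[F] V)) (P : V → Prop) : Prop where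
  iso : ∀ g ∈ L, Iso f g
  ne : ∀ v, P v → v ≠ 0
  smul : ∀ v (l : F), l ≠ 0 → P v → P (l • v)
  map : ∀ g ∈ L, ∀ v, P v → P (g v)
  full : ∀ v, P v → Full f L v
  trans : ∀ u v, P u → P v → ∃ g ∈ L, ∃ l : F, l ≠ 0 ∧ v = l • g u
  spans : ∀ z, z ≠ 0 → ∃ b, P b ∧ f b z ≠ 0

variable {P : V → Prop} [FiniteDimensional F V]

theorem Orbit.move (hP : Orbit f L P) {a v w : V} {c : F} (hv : P v) (h : RadIn f L a w c) :
    P (rad f a w c v) := by
  obtain ⟨g, hg, hg2⟩ := h
  rw [← hg2 v]
  exact hP.map g hg v hv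

/-- Two perpendicular points span a line of points. -/
theorem Orbit.line (hf : SympForm f) (hP : Orbit f L P) {b c : V} (hb : P b) (hc : P c)
    (hbc : f b c = 0) (s : F) (h0 : c + s • b ≠ 0) : P (c + s • b) := by
  by_cases hm : c ∈ (F ∙ b)
  · obtain ⟨t, ht⟩ := Submodule.mem_span_singleton.1 hm
    rw [← ht, ← add_smul] at h0 ⊢
    exact hP.smul _ _ (fun h => h0 (by rw [h, zero_smul])) hb
  · obtain ⟨z, hz1, hz2⟩ := hf.exists_pair _ hm
    have hzb : f z b = 0 := hz1 b (Submodule.mem_span_singleton_self b)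
    obtain ⟨d, hd⟩ := hP.full b hb (s • z) (by simp [hzb])
    have h := hP.move hc hd
    have e : rad f b (s • z) d c = c + s • b := by
      simp [rad, hf.symm c b, hbc, hf.symm c z, hz2]
    rwa [e] at h

theorem Orbit.perp_of_three [Finite F] (hf : SympForm f) (hP : Orbit f L P) {b v : V} {s : F}
    (hb : P b) (hv : P v) (hbv : f v b = 1) (hs : s ≠ 0) (hvs : P (v + s • b)) :
    ∀ u, f u b = 0 → u ≠ 0 → P u := by
  intro u hub hu
  by_cases hm : u ∈ (F ∙ b)
  · obtain ⟨t, rfl⟩ := Submodule.mem_span_singleton.1 hm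
    exact hP.smul _ _ (fun h => hu (by rw [h, zero_smul])) hb
  set u0 := u + f u v • b with hu0
  have h0b : f u0 b = 0 := by simp [hu0, hub, hf.alt]
  have h0v : f u0 v = 0 := by simp [hu0, hf.symm b v, hbv, CharTwo.add_self_eq_zero]
  have h0ne : u0 ≠ 0 := fun h => hm (by
    rw [Submodule.mem_span_singleton]
    exact ⟨f u v, (eq_of_add_eq_zero' F h).symm⟩)
  choose c hc using fun s' : F => hP.full b hb (s' • u0) (by simp [h0b])
  have hp : ∀ s', P (v + s' • u0 + c s' • b) := fun s' => by
    have h := hP.move hv (hc s')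
    have e : rad f b (s' • u0) (c s') v = v + s' • u0 + c s' • b := by
      simp [rad, hf.symm v u0, h0v, hbv]
    rwa [e] at h
  have key : ∀ s1 s2 t : F, s1 ≠ s2 → P (v + s1 • u0 + t • b) → P (v + s2 • u0 + t • b) → P u0 := by
    intro s1 s2 t hne h1 h2
    have hperp : f (v + s1 • u0 + t • b) (v + s2 • u0 + t • b) = 0 := by
      simp only [map_add, map_smul, LinearMap.add_apply, LinearMap.smul_apply, hf.alt, smul_eq_mul,
        hbv, hf.symm b v, hf.symm v u0, h0v, h0b, hf.symm b u0, mul_one, mul_zero, add_zero,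
        zero_add, CharTwo.add_self_eq_zero]
    have e : v + s2 • u0 + t • b + (1 : F) • (v + s1 • u0 + t • b) = (s1 + s2) • u0 := by
      have e1 := vadd_self F v
      have e2 := smul_self_add t b
      linear_combination (norm := module) e1 + e2
    have hne' : s1 + s2 ≠ 0 := fun h => hne (CharTwo.add_eq_zero.1 h)
    have h := hP.line hf h1 h2 hperp 1 (by rw [e]; exact smul_ne_zero hne' h0ne)
    rw [e] at h
    have h' := hP.smul _ _ (inv_ne_zero hne') h
    rwa [inv_smul_smul₀ hne'] at h'
  have hu0P : P u0 := by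
    by_cases hinj : Function.Injective c
    · have hsur := Finite.injective_iff_surjective.1 hinj
      obtain ⟨s1, h1⟩ := hsur 0
      obtain ⟨s2, h2⟩ := hsur s
      by_cases h10 : s1 = 0
      · refine key 0 s2 s (fun h => hs ?_) (by simpa using hvs) (by simpa [h2] using hp s2)
        rw [← h2, ← h]; rwa [h10] at h1
      · exact key 0 s1 0 (Ne.symm h10) (by simpa using hv) (by simpa [h1] using hp s1)
    · simp only [Function.Injective, not_forall] at hinj
      obtain ⟨s1, s2, h, hne⟩ := hinj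
      exact key s1 s2 (c s2) hne (by simpa [h] using hp s1) (hp s2)
  have e : u0 + f u v • b = u := by
    have e2 := smul_self_add (f u v) b
    rw [hu0]; linear_combination (norm := module) e2
  have := hP.line hf hb hu0P (by rw [hf.symm, h0b]) (f u v) (by rwa [e])
  rwa [e] at this

/-- Three points on a hyperbolic line make every non-zero vector a point. -/
theorem Orbit.all_of_three [Finite F] (hf : SympForm f) (hdim : 2 < Module.finrank F V)
    (hP : Orbit f L P) {b c : V} {x y : F} (hb : P b) (hc : P c) (hbc : f b c ≠ 0)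
    (hx : x ≠ 0) (hy : y ≠ 0) (hd : P (x • b + y • c)) : ∀ u, u ≠ 0 → P u := by
  have hk : f c b ≠ 0 := by rwa [hf.symm]
  set v := (f c b)⁻¹ • c with hv
  have hvP : P v := hP.smul _ _ (inv_ne_zero hk) hc
  have hvb : f v b = 1 := by simp [hv, hk]
  have hk' : y * f c b ≠ 0 := mul_ne_zero hy hk
  have hvs : P (v + (x / (y * f c b)) • b) := by
    have h := hP.smul _ _ (inv_ne_zero hk') hd
    have e : (y * f c b)⁻¹ • (x • b + y • c) = v + (x / (y * f c b)) • b := by
      rw [hv, smul_add, smul_smul, smul_smul, add_comm]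
      congr 2 <;> field_simp
    rwa [e] at h
  have h1 := hP.perp_of_three hf hb hvP hvb (div_ne_zero hx hk') hvs
  have h2 : ∀ p, P p → ∀ u, f u p = 0 → u ≠ 0 → P u := by
    intro p hp u hu hu0
    obtain ⟨g, hg, l, hl, rfl⟩ := hP.trans b p hb hp
    have hgu : f (g.symm u) b = 0 := by
      rw [← hP.iso g hg (g.symm u) b, LinearEquiv.apply_symm_apply]
      simpa [hl] using hu
    have h := hP.map g hg _ (h1 _ hgu (fun h => hu0 (by simpa using h)))
    rwa [LinearEquiv.apply_symm_apply] at h
  intro u hu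
  obtain ⟨z, hzb, hzu, hz⟩ := SympForm.exists_perp (f := f) b u ⊥ (by simpa using hdim)
  have hz0 : z ≠ 0 := fun h => hz (by simp [h])
  exact h2 z (h1 z hzb hz0) u (by rw [hf.symm, hzu]) hu

/-- Full radicals everywhere give the transvections, in dimension at least six. -/
theorem radIn_transvection_large (hf : SympForm f) (hdim : 4 < Module.finrank F V)
    (hfull : ∀ b, b ≠ 0 → Full f L b) (a : V) (c : F) : RadIn f L a 0 c := by
  by_cases ha : a = 0
  · refine ⟨1, L.one_mem, fun v => ?_⟩
    simp [ha, rad]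
  have key : ∀ w, f w a = 0 → RadIn f L a w 0 := by
    intro b hba
    by_cases hm : b ∈ (F ∙ a)
    · obtain ⟨t, rfl⟩ := Submodule.mem_span_singleton.1 hm
      exact RadIn.line a t
    have hb0 : b ≠ 0 := fun h => hm (by simp [h])
    have h2 : Module.finrank F (Submodule.span F ({a, b} : Set V)) + 2 < Module.finrank F V := by
      classical
      have h := finrank_span_finset_le_card (R := F) ({a, b} : Finset V)
      have h' : ({a, b} : Finset V).card ≤ 2 := Finset.card_le_two
      rw [Finset.coe_pair] at h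
      simp only [Set.finrank] at h
      omega
    obtain ⟨w, hwa, hwb, hw⟩ := SympForm.exists_perp (f := f) a b _ h2
    obtain ⟨z, hz, hzw⟩ := hf.exists_pair _ hw
    have hza : f z a = 0 := hz a (Submodule.subset_span (Set.mem_insert _ _))
    have hzb : f z b = 0 := hz b (Submodule.subset_span (Set.mem_insert_of_mem _ rfl))
    obtain ⟨c1, hc1⟩ := hfull a ha w hwa
    obtain ⟨d, hd⟩ := hfull b hb0 z hzb
    have h := RadIn.comm hf hba hza hzb hwa hc1 hd
    simpa [hwb, hf.symm w z, hzw] using h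
  have hna : ¬ ∀ w, f a w = 0 := fun h => ha (hf.nd a h)
  -- two orthogonal vectors of `a^⊥` with product `c`
  obtain ⟨w, hwa, -, hw⟩ := SympForm.exists_perp (f := f) a a (F ∙ a) (by
    rw [finrank_span_singleton ha]; omega)
  obtain ⟨z, hz, hzw⟩ := hf.exists_pair _ hw
  have hza : f z a = 0 := hz a (Submodule.mem_span_singleton_self a)
  have h1 := (key (c • z) (by simp [hza])).mul hf (key w hwa) (by simp [hza]) hwa
  have h2 := h1.mul hf (key (c • z + w) (by simp [hza, hwa])) (by simp [hza, hwa])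
    (by simp [hza, hwa])
  rw [vadd_self F (c • z + w), hf.alt] at h2
  simpa [hzw] using h2

theorem exists_sqrt [Finite F] (x : F) : ∃ y : F, y * y = x := by
  have h : Function.Injective (fun y : F => y * y) := fun a b hab => by
    have : (a + b) * (a + b) = 0 := by
      rw [CharTwo.add_mul_self]
      simp only at hab
      rw [hab, CharTwo.add_self_eq_zero]
    exact CharTwo.add_eq_zero.1 (mul_self_eq_zero.1 this)
  exact Finite.injective_iff_surjective.1 h x

/-- Full radicals everywhere on a transitive set give the transvections when `q > 2`. -/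
theorem radIn_transvection_of_three_lt [Finite F] (hf : SympForm f)
    (hdim : 3 < Module.finrank F V) (hF : ∃ k : F, k ≠ 0 ∧ k ≠ 1)
    (hP : Orbit f L P) (hall : ∀ b, b ≠ 0 → P b) (a0 : V) (c0 : F) : RadIn f L a0 0 c0 := by
  have hfull : ∀ b, b ≠ 0 → Full f L b := fun b hb => hP.full b (hall b hb)
  let D : V → V → F → Prop := fun a b d => ∃ t : F, RadIn f L b (t • a) d
  let K : V → Prop := fun a => ∀ c, RadIn f L a 0 c
  have deriv : ∀ a b : V, a ≠ 0 → f b a = 0 → b ∉ (F ∙ a) → ∀ d, D a b d → ∀ r : F,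
      RadIn f L a ((d * r) • b) (d * r * r) := by
    intro a b ha hba hb d ⟨t, ht⟩ r
    obtain ⟨z, hz, hzb⟩ := hf.exists_pair _ hb
    have hza : f z a = 0 := hz a (Submodule.mem_span_singleton_self a)
    obtain ⟨c, hc⟩ := hfull a ha (r • z) (by simp [hza])
    have hab : f a b = 0 := by rw [hf.symm, hba]
    have h := RadIn.comm hf hba (by simp [hf.alt]) (by simp [hab]) (by simp [hza]) hc ht
    have e1 : f (r • z) (t • a) = 0 := by simp [hza]
    have e2 : f (r • z) b = r := by simp [hzb]
    rw [e1, e2, zero_add, smul_smul] at h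
    obtain ⟨g, hg, hg2⟩ := h
    exact ⟨g, hg, fun v => by rw [hg2 v, rad_shift]⟩
  have two : ∀ a b : V, a ≠ 0 → f b a = 0 → b ∉ (F ∙ a) → ∀ d d', D a b d → D a b d' →
      d ≠ 0 → d' ≠ 0 → d ≠ d' → K a := by
    intro a b ha hba hb d d' hd hd' h0 h0' hne c
    have hk : d⁻¹ + d'⁻¹ ≠ 0 := fun h => hne (inv_injective (CharTwo.add_eq_zero.1 h))
    obtain ⟨s, hs⟩ := exists_sqrt (c / (d⁻¹ + d'⁻¹))
    have h1 := deriv a b ha hba hb d hd (s / d)
    have h2 := deriv a b ha hba hb d' hd' (s / d')
    rw [mul_div_cancel₀ _ h0] at h1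
    rw [mul_div_cancel₀ _ h0'] at h2
    have h := h1.mul hf h2 (by simp [hba]) (by simp [hba])
    rw [vadd_self F (s • b), hf.alt, add_zero] at h
    have e : s * (s / d) + s * (s / d') = c := by
      rw [eq_div_iff hk] at hs
      rw [← hs]; ring
    rwa [e] at h
  have hpair : ∀ a b : V, a ≠ 0 → b ≠ 0 → f b a = 0 → b ∉ (F ∙ a) → ¬ K b →
      ∀ d, D a b d → d = 0 := by
    intro a b ha hb hba hm hKb d hd
    by_contra h0
    obtain ⟨k, hk0, hk1⟩ := hF
    have hm' : a ∉ (F ∙ b) := fun h => hm (by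
      obtain ⟨t, ht⟩ := Submodule.mem_span_singleton.1 h
      have ht0 : t ≠ 0 := fun h => ha (by rw [← ht, h, zero_smul])
      exact Submodule.mem_span_singleton.2 ⟨t⁻¹, by rw [← ht, inv_smul_smul₀ ht0]⟩)
    have hd1 : D b a d := ⟨d, by simpa using deriv a b ha hba hm d hd 1⟩
    obtain ⟨r, hr⟩ := exists_sqrt k
    have hd2 : D b a (d * k) := ⟨d * r, by
      have h := deriv a b ha hba hm d hd r
      rwa [mul_assoc d r r, hr] at h⟩
    exact hKb (two b a hb (by rw [hf.symm, hba]) hm' d (d * k) hd1 hd2 h0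
      (mul_ne_zero h0 hk0) fun h => hk1 (mul_left_cancel₀ h0 (by rw [mul_one]; exact h.symm)))
  have hex : ∃ b, b ≠ 0 ∧ K b := by
    by_contra hno
    push_neg at hno
    haveI : Nontrivial V := Module.nontrivial_of_finrank_pos (R := F) (by omega)
    obtain ⟨a, ha⟩ := exists_ne (0 : V)
    obtain ⟨w, hwa, -, hw⟩ := SympForm.exists_perp (f := f) a a (F ∙ a) (by
      rw [finrank_span_singleton ha]; omega)
    obtain ⟨z, hz, hzw⟩ := hf.exists_pair _ hw
    have hza : f z a = 0 := hz a (Submodule.mem_span_singleton_self a)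
    have zero : ∀ x, f x a = 0 → x ∉ (F ∙ a) → ∀ c, RadIn f L a x c → c = 0 := by
      intro x hxa hx c hc
      have hx0 : x ≠ 0 := fun h => hx (by simp [h])
      have hm : a ∉ (F ∙ x) := fun h => hx (by
        obtain ⟨t, ht⟩ := Submodule.mem_span_singleton.1 h
        have ht0 : t ≠ 0 := fun h => ha (by rw [← ht, h, zero_smul])
        exact Submodule.mem_span_singleton.2 ⟨t⁻¹, by rw [← ht, inv_smul_smul₀ ht0]⟩)
      exact hpair x a hx0 ha (by rw [hf.symm, hxa]) hm (hno a ha) c ⟨1, by rwa [one_smul]⟩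
    have hzm : z ∉ (F ∙ a) := fun h => by
      obtain ⟨t, rfl⟩ := Submodule.mem_span_singleton.1 h
      simp [hf.symm a w, hwa] at hzw
    obtain ⟨c1, hc1⟩ := hfull a ha w hwa
    obtain ⟨c2, hc2⟩ := hfull a ha z hza
    have h := hc1.mul hf hc2 hwa hza
    rw [zero w hwa hw c1 hc1, zero z hza hzm c2 hc2, hf.symm w z, hzw] at h
    have hsum : w + z ∉ (F ∙ a) := fun h => by
      obtain ⟨t, ht⟩ := Submodule.mem_span_singleton.1 h
      have h1 : f (w + z) w = 0 := by rw [← ht]; simp [hf.symm a w, hwa]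
      simp [hf.alt, hzw] at h1
    have h0 := zero (w + z) (by simp [hwa, hza]) hsum _ h
    simp at h0
  obtain ⟨b, hb, hKb⟩ := hex
  by_cases ha : a0 = 0
  · refine ⟨1, L.one_mem, fun v => ?_⟩
    simp [ha, rad]
  obtain ⟨g, hg, l, hl, rfl⟩ := hP.trans b a0 (hall b hb) (hall a0 ha)
  rw [RadIn.smul_iff, smul_zero]
  simpa using (hKb (l * l * c0)).conj hf hg (hP.iso g hg)

end Cfsg.Agent.SpTrans63
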